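import Cfsg.Agent.Lib.FrobAut20.Trace
import Cfsg.Agent.Lib.TwoFrobenius.Complement

/-!
# A Frobenius group gives operator data
-/

namespace CfsgLib.FrobAut20

set_option linter.style.haveILetI false

/-- A Frobenius complement and kernel give operator data. -/
theorem opData_of_frobenius {A : Type*} [Group A] [Finite A] {Fk Hc : Subgroup A} [Fk.Normal]
    (hHc : Cfsg.IsFrobeniusComplement Hc) (hker : Cfsg.frobeniusKernel Hc = (Fk : Set A)) :
    OpData Fk Hc := by
  have hK := TwoFrobenius.isComplement_of_kernel hHc hker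
  refine ⟨inferInstance, TwoFrobenius.isNilpotent_kernel hHc hK, fun a => ?_,
    fun h hh h1 s hs hc => Frobenius.eq_one_of_commute hHc hK.disjoint hs hh h1 hc⟩
  have ha : a⁻¹ ∈ Fk ⊔ Hc := by rw [hK.sup_eq_top]; exact Subgroup.mem_top _
  rw [← SetLike.mem_coe, Subgroup.normal_mul] at ha
  obtain ⟨f, hf, h, hh, he⟩ := ha
  refine ⟨h⁻¹, Hc.inv_mem hh, f⁻¹, Fk.inv_mem hf, ?_⟩
  rw [← mul_inv_rev, show f * h = a⁻¹ from he, inv_inv]

end CfsgLib.FrobAut20
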