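import Cfsg.Agent.Lib.FrobAut20.Weight

/-!
# Elementary abelian groups under operators without fixed points

Consequences of freeness for a finite abelian group of exponent `p` with an action of `A = HF`:
averaging over a subgroup of `F` of order prime to `p`, lifting over `H`, and the centralising
lemma.
-/

namespace CfsgLib.FrobAut20

open Module
open scoped TensorProduct

set_option linter.style.haveILetI false

section Additive

variable {W : Type*} [AddCommGroup W] [Finite W] {p : ℕ} [Fact p.Prime] [Module (ZMod p) W]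

/-- `exists_trace` over the prime field. -/
theorem exists_trace_add {A : Type*} [Group A] [Finite A] (ρ : Representation (ZMod p) A W)
    (F H : Subgroup A) [Fintype H] (hA : OpData F H)
    (hfix : ∀ v : W, (∀ f ∈ F, ρ f v = v) → v = 0) :
    ∃ e : W →ₗ[ZMod p] W, (∀ v, ∑ h : H, ρ (h : A) (e (ρ (h : A)⁻¹ v)) = v) ∧
      (Nontrivial W → ∃ v, ∑ h : H, ρ (h : A) v ≠ 0) :=
  haveI : Module.Finite (ZMod p) W := Module.Finite.of_finite
  exists_trace ρ F H hA hfix

/-- The weight argument over the prime field, by extension of scalars. -/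
theorem eq_one_add {A : Type*} [Group A] [Finite A] {Q : Type*} [CommGroup Q] [Finite Q]
    [MulDistribMulAction A Q] (ρ : Representation (ZMod p) A W)
    (σ : Representation (ZMod p) Q W)
    (hcomp : ∀ (a : A) (x : Q) (v : W), ρ a (σ x v) = σ (a • x) (ρ a v))
    (F H : Subgroup A) [Fintype H] (hA : OpData F H) (hq : (Nat.card Q).Coprime p)
    (S : Subgroup A) [Fintype S] (hSF : S ≤ F) (hSc : (Nat.card S).Coprime p)
    (hzero : ∑ s : S, ρ (s : A) = 0) (c : Q)
    (hc : ∀ v, σ c (∑ h : H, ρ (h : A) v) = ∑ h : H, ρ (h : A) v) : σ c = 1 := by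
  classical
  haveI : Module.Finite (ZMod p) W := Module.Finite.of_finite
  let K := AlgebraicClosure (ZMod p)
  haveI : CharP K p := charP_of_injective_algebraMap (algebraMap (ZMod p) K).injective p
  let Φ : Module.End (ZMod p) W →ₐ[ZMod p] Module.End K (K ⊗[ZMod p] W) :=
    Module.End.baseChangeHom (ZMod p) K W
  have hΦ : Function.Injective Φ := by
    intro f g h
    refine LinearMap.ext fun x => ?_
    have h' := LinearMap.congr_fun h ((1 : K) ⊗ₜ[ZMod p] x)
    by_contra hne
    obtain ⟨ψ, hψ⟩ : ∃ ψ : W →ₗ[ZMod p] ZMod p, ψ (f x - g x) ≠ 0 := by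
      by_contra hall
      push Not at hall
      exact hne (sub_eq_zero.1 ((Module.forall_dual_apply_eq_zero_iff (ZMod p) _).1 hall))
    have h2 := congrArg (fun t => TensorProduct.AlgebraTensorModule.rid (ZMod p) K K
      (LinearMap.baseChange K ψ t)) h'
    change TensorProduct.AlgebraTensorModule.rid (ZMod p) K K (LinearMap.baseChange K ψ ((1 : K) ⊗ₜ[ZMod p] f x)) =
      TensorProduct.AlgebraTensorModule.rid (ZMod p) K K (LinearMap.baseChange K ψ ((1 : K) ⊗ₜ[ZMod p] g x)) at h2
    simp only [LinearMap.baseChange_tmul, TensorProduct.AlgebraTensorModule.rid_tmul] at h2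
    rw [← sub_eq_zero, ← sub_smul, ← map_sub, ← Algebra.algebraMap_eq_smul_one, map_eq_zero] at h2
    exact hψ h2
  have key := eq_one_of_fixes_traces (Φ.toRingHom.toMonoidHom.comp ρ)
    (Φ.toRingHom.toMonoidHom.comp σ) (fun a x w => ?_) F H hA ?_ (fun w hw => ?_) c fun w => ?_
  · exact hΦ (key.trans (map_one Φ).symm)
  · have : ρ a * σ x = σ (a • x) * ρ a := LinearMap.ext fun y => hcomp a x y
    exact LinearMap.congr_fun ((map_mul Φ _ _).symm.trans ((congrArg Φ this).trans (map_mul Φ _ _))) w
  · intro h0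
    rw [CharP.cast_eq_zero_iff K p] at h0
    exact (Fact.out : p.Prime).one_lt.ne' (Nat.dvd_one.1 (hq ▸ Nat.dvd_gcd h0 dvd_rfl))
  · have h1 := congrArg (fun f => Φ f w) hzero
    simp only [map_sum, map_zero, LinearMap.sum_apply, LinearMap.zero_apply] at h1
    have h2 : ∀ s : S, Φ (ρ (s : A)) w = w := fun s => hw s (hSF s.2)
    rw [Finset.sum_congr rfl fun s _ => h2 s, Finset.sum_const, Finset.card_univ,
      ← Nat.cast_smul_eq_nsmul K, smul_eq_zero] at h1
    refine h1.resolve_left fun h0 => ?_
    rw [CharP.cast_eq_zero_iff K p, ← Nat.card_eq_fintype_card] at h0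
    exact (Fact.out : p.Prime).one_lt.ne' (Nat.dvd_one.1 (hSc ▸ Nat.dvd_gcd h0 dvd_rfl))
  · have : σ c * (∑ h : H, ρ (h : A)) = ∑ h : H, ρ (h : A) := by
      refine LinearMap.ext fun x => ?_
      rw [Module.End.mul_apply, LinearMap.sum_apply]
      exact hc x
    have h1 := congrArg (fun f => Φ f w) this
    simpa [map_sum, LinearMap.sum_apply] using h1

end Additive

variable {A : Type*} [Group A] [Finite A] {V : Type*} [CommGroup V] [Finite V]
  [MulDistribMulAction A V] {p : ℕ} [Fact p.Prime]

/-- The representation over the prime field. -/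
@[reducible] noncomputable def zmodRep [Module (ZMod p) (Additive V)] :
    Representation (ZMod p) A (Additive V) where
  toFun a := AddMonoidHom.toZModLinearMap p
    (MonoidHom.toAdditive (MulDistribMulAction.toMonoidHom V a))
  map_one' := LinearMap.ext fun x => congrArg Additive.ofMul (one_smul A x.toMul)
  map_mul' a b := LinearMap.ext fun x => congrArg Additive.ofMul (mul_smul a b x.toMul)

/-- A normal subgroup of `F` of order prime to `p` without fixed points. -/
theorem exists_coprime_fpf (hexp : ∀ v : V, v ^ p = 1) (F : Subgroup A) [F.Normal]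
    [Group.IsNilpotent F] (hfix : ∀ v : V, (∀ f ∈ F, f • v = v) → v = 1) :
    ∃ S : Subgroup A, S.Normal ∧ S ≤ F ∧ (Nat.card S).Coprime p ∧
      ∀ v : V, (∀ s ∈ S, s • v = v) → v = 1 := by
  letI : Module (ZMod p) (Additive V) := AddCommGroup.zmodModule (n := p) fun x => hexp x.toMul
  obtain ⟨S, hn, hle, hc, hS⟩ := FrobeniusFree.exists_coprime_normal
    (zmodRep (A := A) (V := V) (p := p)) F fun v hv => hfix v.toMul hv
  refine ⟨S, hn, hle, ?_, fun v hv => hS (Additive.ofMul v) hv⟩
  rw [Nat.coprime_comm, (Fact.out : p.Prime).coprime_iff_not_dvd]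
  exact fun h => hc ((ZMod.natCast_eq_zero_iff _ _).2 h)

/-- An endomorphism whose trace over `H` is the identity, and an element of nontrivial trace. -/
theorem exists_trace_hom (hexp : ∀ v : V, v ^ p = 1) (F H : Subgroup A) [Fintype H]
    (hA : OpData F H) (hfix : ∀ v : V, (∀ f ∈ F, f • v = v) → v = 1) :
    ∃ e : V →* V, (∀ v, ∏ h : H, (h : A) • e ((h : A)⁻¹ • v) = v) ∧
      (Nontrivial V → ∃ v : V, ∏ h : H, (h : A) • v ≠ 1) := by
  letI : Module (ZMod p) (Additive V) := AddCommGroup.zmodModule (n := p) fun x => hexp x.toMul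
  obtain ⟨e, he, htr⟩ := exists_trace_add (zmodRep (A := A) (V := V) (p := p)) F H hA
    (fun v hv => hfix v.toMul hv)
  refine ⟨{ toFun := fun v => (e (Additive.ofMul v)).toMul
            map_one' := congrArg Additive.toMul (map_zero e)
            map_mul' := fun x y => congrArg Additive.toMul (map_add e (Additive.ofMul x) (Additive.ofMul y)) },
    fun v => ?_, fun hV => ?_⟩
  · exact congrArg Additive.toMul (he (Additive.ofMul v))
  · obtain ⟨v, hv⟩ := htr inferInstance
    exact ⟨v.toMul, fun h => hv (congrArg Additive.ofMul h)⟩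

/-- An element of `Q` centralising the fixed points of `H` centralises `V`. -/
theorem smul_eq_self_of_fixes (hexp : ∀ v : V, v ^ p = 1) {Q : Type*} [CommGroup Q] [Finite Q]
    [MulDistribMulAction A Q] [MulDistribMulAction Q V]
    (hcomp : ∀ (a : A) (x : Q) (v : V), a • x • v = (a • x) • a • v)
    (F H : Subgroup A) (hA : OpData F H) (hq : (Nat.card Q).Coprime p)
    (hfix : ∀ v : V, (∀ f ∈ F, f • v = v) → v = 1) (c : Q)
    (hc : ∀ v : V, (∀ h ∈ H, h • v = v) → c • v = v) (v : V) : c • v = v := by
  classical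
  haveI := hA.normal
  haveI := hA.nilpotent
  letI : Module (ZMod p) (Additive V) := AddCommGroup.zmodModule (n := p) fun x => hexp x.toMul
  haveI : Fintype H := Fintype.ofFinite H
  let ρ := zmodRep (A := A) (V := V) (p := p)
  let σ := zmodRep (A := Q) (V := V) (p := p)
  obtain ⟨S, hSn, hSF, hSc, hSfix⟩ := exists_coprime_fpf hexp F hfix
  haveI : Fintype S := Fintype.ofFinite S
  have hzero : (∑ s : S, ρ (s : A)) = (0 : Module.End (ZMod p) (Additive V)) := by
    refine LinearMap.ext fun x => ?_
    rw [LinearMap.sum_apply, LinearMap.zero_apply]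
    refine congrArg Additive.ofMul (hSfix (∑ s : S, ρ (s : A) x).toMul fun t ht => ?_)
    have : ρ t (∑ s : S, ρ (s : A) x) = ∑ s : S, ρ (s : A) x := by
      rw [map_sum]
      refine Fintype.sum_equiv (Equiv.mulLeft (⟨t, ht⟩ : S)) _ _ fun s => ?_
      show ρ t (ρ (s : A) x) = ρ (t * (s : A)) x
      rw [map_mul]; rfl
    exact congrArg Additive.toMul this
  have h1 : σ c = 1 := eq_one_add ρ σ (fun a x y => congrArg Additive.ofMul (hcomp a x y.toMul))
    F H hA hq S hSF hSc hzero c fun x => by
      refine congrArg Additive.ofMul (hc (∑ h : H, ρ (h : A) x).toMul fun h hh => ?_)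
      have : ρ h (∑ g : H, ρ (g : A) x) = ∑ g : H, ρ (g : A) x := by
        rw [map_sum]
        refine Fintype.sum_equiv (Equiv.mulLeft (⟨h, hh⟩ : H)) _ _ fun g => ?_
        show ρ h (ρ (g : A) x) = ρ (h * (g : A)) x
        rw [map_mul]; rfl
      exact congrArg Additive.toMul this
  exact congrArg Additive.toMul (LinearMap.congr_fun h1 (Additive.ofMul v))

end CfsgLib.FrobAut20
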