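import Cfsg.Agent.Lib.FrobAut20.Descend

/-!
# Lifting fixed points over an invariant elementary abelian normal subgroup

The orders of the group and of the operators need not be coprime.
-/

namespace CfsgLib.FrobAut20

set_option linter.style.haveILetI false
open Pointwise

variable {A : Type*} [Group A] {G : Type*} [Group G] [MulDistribMulAction A G]

/-- The fixed points of a subgroup of operators. -/
def fixSub (H : Subgroup A) (G : Type*) [Group G] [MulDistribMulAction A G] : Subgroup G where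
  carrier := {g | ∀ h ∈ H, h • g = g}
  one_mem' h _ := smul_one h
  mul_mem' ha hb h hh := by rw [smul_mul', ha h hh, hb h hh]
  inv_mem' ha h hh := by rw [smul_inv', ha h hh]

omit [Group G] [MulDistribMulAction A G] in
theorem mem_fixSub {G : Type*} [Group G] [MulDistribMulAction A G] {H : Subgroup A} {g : G} :
    g ∈ fixSub H G ↔ ∀ h ∈ H, h • g = g := Iff.rfl

/-- Invariance of a subgroup under the operators. -/
def IsInv (A : Type*) [Group A] {G : Type*} [Group G] [MulDistribMulAction A G] (N : Subgroup G) :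
    Prop :=
  ∀ a : A, ∀ n ∈ N, a • n ∈ N

theorem IsInv.smul_mem_iff {N : Subgroup G} (hN : IsInv A N) (a : A) {n : G} :
    a • n ∈ N ↔ n ∈ N :=
  ⟨fun h => by simpa using hN a⁻¹ _ h, hN a n⟩

/-- The action on an invariant subgroup. -/
@[reducible] def subAct {N : Subgroup G} (hN : IsInv A N) : MulDistribMulAction A N where
  smul a n := ⟨a • (n : G), hN a n n.2⟩
  one_smul n := Subtype.ext (one_smul A (n : G))
  mul_smul a b n := Subtype.ext (mul_smul a b (n : G))
  smul_mul a m n := Subtype.ext (smul_mul' a (m : G) n)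
  smul_one a := Subtype.ext (smul_one a)

/-- A commutative subgroup as a commutative group. -/
@[reducible] def commSub (N : Subgroup G) (hc : ∀ x ∈ N, ∀ y ∈ N, x * y = y * x) : CommGroup N :=
  { (inferInstance : Group N) with mul_comm := fun a b => Subtype.ext (hc a a.2 b b.2) }

/-- Averaging a cocycle over a subgroup of order prime to the exponent. -/
theorem exists_of_cocycle {S : Type*} [Group S] [Finite S] {V : Type*} [CommGroup V]
    [MulDistribMulAction S V] {p : ℕ} [Fact p.Prime] (hexp : ∀ v : V, v ^ p = 1)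
    (hcop : (Nat.card S).Coprime p) (d : S → V) (hd : ∀ a b, d (a * b) = d a * a • d b) :
    ∃ n : V, ∀ a, a • n = n * (d a)⁻¹ := by
  haveI := Fintype.ofFinite S
  obtain ⟨e, -, he⟩ := Nat.exists_mul_mod_eq_one_of_coprime hcop (Fact.out : p.Prime).one_lt
  refine ⟨(∏ b, d b) ^ e, fun a => ?_⟩
  have h1 : a • ∏ b, d b = (∏ b, d b) * ((d a) ^ Nat.card S)⁻¹ := by
    have h2 : ∀ b, a • d b = d (a * b) * (d a)⁻¹ := fun b => by rw [hd]; simp
    rw [Finset.smul_prod', Finset.prod_congr rfl fun b _ => h2 b, Finset.prod_mul_distrib,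
      Finset.prod_const, Finset.card_univ, ← Nat.card_eq_fintype_card, inv_pow]
    congr 1
    exact Equiv.prod_comp (Equiv.mulLeft a) d
  rw [smul_pow', h1, mul_pow, inv_pow, ← pow_mul]
  congr 2
  rw [← Nat.div_add_mod (Nat.card S * e) p, he, pow_add, pow_mul, hexp, one_pow, one_mul, pow_one]

variable [Finite A] [Finite G]

omit [Finite G] in
/-- A coset of `N` fixed by a coprime subgroup of operators contains a fixed point. -/
theorem exists_fix_coprime {p : ℕ} [Fact p.Prime] (N : Subgroup G) (hN : IsInv A N)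
    (hc : ∀ x ∈ N, ∀ y ∈ N, x * y = y * x) (hexp : ∀ n ∈ N, n ^ p = 1) (S : Subgroup A)
    (hcop : (Nat.card S).Coprime p) (g : G) (hg : ∀ s ∈ S, g⁻¹ * s • g ∈ N) :
    ∃ n ∈ N, g * n ∈ fixSub S G := by
  letI := commSub N hc
  letI : MulDistribMulAction S N := subAct (fun (s : S) n hn => hN s n hn : IsInv S N)
  obtain ⟨n, hn⟩ := exists_of_cocycle (p := p) (fun v : N => Subtype.ext (hexp v v.2)) hcop
    (fun s : S => (⟨g⁻¹ * (s : A) • g, hg s s.2⟩ : N)) fun a b => Subtype.ext (by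
      show g⁻¹ * ((a * b : S) : A) • g = (g⁻¹ * (a : A) • g) * (a : A) • (g⁻¹ * (b : A) • g)
      rw [smul_mul', smul_inv', Subgroup.coe_mul, mul_smul]; group)
  refine ⟨n, n.2, fun s hs => ?_⟩
  have h1 : s • (n : G) = (n : G) * (g⁻¹ * s • g)⁻¹ := congrArg Subtype.val (hn ⟨s, hs⟩)
  have h2 : (n : G) * (g⁻¹ * s • g)⁻¹ = (g⁻¹ * s • g)⁻¹ * (n : G) :=
    hc _ n.2 _ (N.inv_mem (hg s hs))
  rw [smul_mul', h1, h2]; group

/-- Fixed-point-freeness of `F` passes to the quotient by `N`. -/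
theorem mem_of_fixed_coset {p : ℕ} [Fact p.Prime] {F : Subgroup A} [F.Normal] [Group.IsNilpotent F]
    (N : Subgroup G) [N.Normal] (hN : IsInv A N) (hc : ∀ x ∈ N, ∀ y ∈ N, x * y = y * x)
    (hexp : ∀ n ∈ N, n ^ p = 1) (hfix : ∀ g : G, (∀ f ∈ F, f • g = g) → g = 1) (g : G)
    (hg : ∀ f ∈ F, g⁻¹ * f • g ∈ N) : g ∈ N := by
  letI := commSub N hc
  letI := subAct hN
  obtain ⟨S, hSn, hSF, hScop, hSfix⟩ := exists_coprime_fpf (A := A) (V := N) (p := p)
    (fun v => Subtype.ext (hexp v v.2)) F fun v hv => Subtype.ext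
      (hfix v fun f hf => congrArg Subtype.val (hv f hf))
  obtain ⟨n, hn, hgn⟩ := exists_fix_coprime N hN hc hexp S hScop g fun s hs => hg s (hSF hs)
  have : g * n = 1 := by
    refine hfix _ fun f hf => ?_
    have hm : (g * n)⁻¹ * f • (g * n) ∈ N := by
      have h1 : n⁻¹ * (g⁻¹ * f • g) * f • n ∈ N :=
        N.mul_mem (N.mul_mem (N.inv_mem hn) (hg f hf)) (hN f n hn)
      rw [smul_mul']
      convert h1 using 1
      group
    have h1 : (⟨_, hm⟩ : N) = 1 := hSfix _ fun s hs => Subtype.ext (by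
      show s • ((g * n)⁻¹ * f • (g * n)) = (g * n)⁻¹ * f • (g * n)
      rw [smul_mul', smul_inv', hgn s hs, ← mul_smul,
        show s * f = f * (f⁻¹ * s * f) by group, mul_smul,
        hgn _ (by simpa using hSn.conj_mem s hs f⁻¹)])
    exact (inv_mul_eq_one.1 (congrArg Subtype.val h1)).symm
  exact (eq_inv_of_mul_eq_one_left this) ▸ N.inv_mem hn

/-- A coset of `N` fixed by `H` contains a fixed point of `H`. -/
theorem exists_fix_trace {p : ℕ} [Fact p.Prime] {F H : Subgroup A} (hA : OpData F H)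
    (N : Subgroup G) (hN : IsInv A N) (hc : ∀ x ∈ N, ∀ y ∈ N, x * y = y * x)
    (hexp : ∀ n ∈ N, n ^ p = 1) (hfix : ∀ n ∈ N, (∀ f ∈ F, f • n = n) → n = 1) (g : G)
    (hg : ∀ h ∈ H, g⁻¹ * h • g ∈ N) : ∃ n ∈ N, g * n ∈ fixSub H G := by
  classical
  letI := commSub N hc
  letI := subAct hN
  haveI := Fintype.ofFinite H
  obtain ⟨e, he, -⟩ := exists_trace_hom (A := A) (V := N) (p := p)
    (fun v => Subtype.ext (hexp v v.2)) F H hA
    fun v hv => Subtype.ext (hfix v v.2 fun f hf => congrArg Subtype.val (hv f hf))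
  let d : H → N := fun h => ⟨g⁻¹ * (h : A) • g, hg h h.2⟩
  have hd : ∀ a b : H, d (a * b) = d a * (a : A) • d b := fun a b => Subtype.ext (by
    show g⁻¹ * ((a * b : H) : A) • g = (g⁻¹ * (a : A) • g) * (a : A) • (g⁻¹ * (b : A) • g)
    rw [smul_mul', smul_inv', Subgroup.coe_mul, mul_smul]; group)
  obtain ⟨n, hn⟩ : ∃ n : N, n = ∏ k : H, (k : A) • e ((k : A)⁻¹ • d k) := ⟨_, rfl⟩
  refine ⟨n, n.2, fun h hh => ?_⟩
  have key : h • n = n * (d ⟨h, hh⟩)⁻¹ := by
    have h2 : ∀ k : H, h • (k : A) • e ((k : A)⁻¹ • d k) =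
        ((⟨h, hh⟩ * k : H) : A) • e (((⟨h, hh⟩ * k : H) : A)⁻¹ • d (⟨h, hh⟩ * k)) *
          (((⟨h, hh⟩ * k : H) : A) • e (((⟨h, hh⟩ * k : H) : A)⁻¹ • d ⟨h, hh⟩))⁻¹ := by
      intro k
      rw [hd, smul_mul', map_mul, smul_mul', mul_inv_cancel_comm, Subgroup.coe_mul, ← mul_smul,
        ← mul_smul, show ((⟨h, hh⟩ : H) : A) = h from rfl,
        show (h * (k : A))⁻¹ * h = (k : A)⁻¹ by group]
    rw [hn, Finset.smul_prod', Finset.prod_congr rfl fun k _ => h2 k, Finset.prod_mul_distrib,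
      Finset.prod_inv_distrib]
    congr 1
    · exact Equiv.prod_comp (Equiv.mulLeft (⟨h, hh⟩ : H))
        (fun j : H => (j : A) • e ((j : A)⁻¹ • d j))
    · congr 1
      refine (Equiv.prod_comp (Equiv.mulLeft (⟨h, hh⟩ : H))
        (fun j : H => (j : A) • e ((j : A)⁻¹ • d ⟨h, hh⟩))).trans ?_
      exact he _
  have h1 : h • (n : G) = (n : G) * (g⁻¹ * h • g)⁻¹ := congrArg Subtype.val key
  have h2 : (n : G) * (g⁻¹ * h • g)⁻¹ = (g⁻¹ * h • g)⁻¹ * (n : G) :=
    hc _ n.2 _ (N.inv_mem (hg h hh))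
  rw [smul_mul', h1, h2]; group

end CfsgLib.FrobAut20
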