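import Cfsg.Agent.Lib.FrobAut20.Tools
import Cfsg.Agent.Lib.Frobenius.ZJComplement
import Cfsg.Agent.Lib.Solvable.EigenChain
import Cfsg.Agent.Lib.Solvable.Carter
import Cfsg.Agent.Lib.Coprime85.Invariant

/-!
# A fixed-point-free kernel and a nilpotent centraliser of the complement

If `A = HF` acts on `G`, the kernel `F` without fixed points and `C_G(H)` is nilpotent, then `G` is
nilpotent. The orders are arbitrary; no classification is used.
-/

namespace CfsgLib.FrobAut20

set_option linter.style.haveILetI false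
open Pointwise

universe u v

variable {A : Type v} [Group A] [Finite A] {F H : Subgroup A}

/-- The induction hypothesis: the theorem for groups of smaller order. -/
def Below (F H : Subgroup A) (n : ℕ) : Prop :=
  ∀ (G : Type u) [Group G] [Finite G] [MulDistribMulAction A G], Nat.card G < n →
    (∀ g : G, (∀ f ∈ F, f • g = g) → g = 1) → Group.IsNilpotent (fixSub H G) → Group.IsNilpotent G

variable {G : Type u} [Group G] [Finite G] [MulDistribMulAction A G]

omit [Finite A] in
/-- Proper invariant subgroups are nilpotent. -/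
theorem isNilpotent_of_lt (hb : Below.{u} F H (Nat.card G))
    (hfix : ∀ g : G, (∀ f ∈ F, f • g = g) → g = 1) (hnil : Group.IsNilpotent (fixSub H G))
    {K : Subgroup G} (hK : IsInv A K) (hne : K ≠ ⊤) : Group.IsNilpotent K := by
  letI := subAct hK
  refine hb K (lt_of_le_of_ne (Subgroup.card_le_card_group K)
    fun h => hne (Subgroup.eq_top_of_card_eq K h))
    (fun g hg => Subtype.ext (hfix g fun f hf => congrArg Subtype.val (hg f hf))) ?_
  exact isNilpotent_of_injective_hom'
    ({ toFun := fun x => ⟨((x : K) : G), fun h hh => congrArg Subtype.val (x.2 h hh)⟩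
       map_one' := rfl
       map_mul' := fun _ _ => rfl } : fixSub H K →* fixSub H G)
    (fun x y e => Subtype.ext (Subtype.ext (congrArg Subtype.val e :)))

/-- Quotients by invariant elementary abelian normal subgroups are nilpotent. -/
theorem isNilpotent_quotient (hA : OpData F H) (hb : Below.{u} F H (Nat.card G))
    (hfix : ∀ g : G, (∀ f ∈ F, f • g = g) → g = 1) (hnil : Group.IsNilpotent (fixSub H G))
    {p : ℕ} [Fact p.Prime] {N : Subgroup G} [N.Normal] (hN : IsInv A N) (hne : N ≠ ⊥)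
    (hc : ∀ x ∈ N, ∀ y ∈ N, x * y = y * x) (hexp : ∀ n ∈ N, n ^ p = 1) :
    Group.IsNilpotent (G ⧸ N) := by
  haveI := hA.normal
  haveI := hA.nilpotent
  haveI := hnil
  letI := quotAct hN
  refine hb (G ⧸ N) ?_ ?_ ?_
  · have h1 : 1 < Nat.card N := Subgroup.one_lt_card_iff_ne_bot N |>.2 hne
    have h2 := Subgroup.card_eq_card_quotient_mul_card_subgroup N
    have h3 : 0 < Nat.card (G ⧸ N) := Nat.card_pos
    nlinarith
  · intro q hq
    induction q using QuotientGroup.induction_on with
    | H g =>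
      refine (QuotientGroup.eq_one_iff g).2 (mem_of_fixed_coset N hN hc hexp hfix g fun f hf => ?_)
      exact QuotientGroup.eq.1 (hq f hf).symm
  · refine Group.nilpotent_of_surjective
      (({ toFun := fun x => ⟨((x : G) : G ⧸ N), fun h hh => congrArg QuotientGroup.mk (x.2 h hh)⟩
          map_one' := rfl
          map_mul' := fun _ _ => rfl } : fixSub H G →* fixSub H (G ⧸ N))) ?_
    rintro ⟨q, hq⟩
    obtain ⟨g, rfl⟩ := QuotientGroup.mk_surjective q
    obtain ⟨n, hn, hgn⟩ := exists_fix_trace hA N hN hc hexp (fun x _ hx => hfix x hx) g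
      fun h hh => QuotientGroup.eq.1 (hq h hh).symm
    refine ⟨⟨g * n, hgn⟩, Subtype.ext ?_⟩
    show ((g * n : G) : G ⧸ N) = (g : G ⧸ N)
    rw [QuotientGroup.mk_mul, (QuotientGroup.eq_one_iff n).2 hn, mul_one]

omit [Finite A] [Finite G] [MulDistribMulAction A G] in
/-- An element of prime power order of a `p`-subgroup. -/
theorem exists_pow_eq_one {p : ℕ} {U : Subgroup G} (hU : IsPGroup p U) {x : G} (hx : x ∈ U) :
    ∃ k, x ^ p ^ k = 1 := by
  obtain ⟨k, hk⟩ := hU ⟨x, hx⟩
  exact ⟨k, congrArg Subtype.val hk⟩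

omit [Finite A] in
/-- A nontrivial invariant `p`-subgroup lies in an invariant Sylow subgroup, if no proper
nontrivial invariant subgroup is normal. -/
theorem exists_inv_sylow (hb : Below.{u} F H (Nat.card G))
    (hfix : ∀ g : G, (∀ f ∈ F, f • g = g) → g = 1) (hnil : Group.IsNilpotent (fixSub H G))
    (hsimple : ∀ N : Subgroup G, N.Normal → IsInv A N → N = ⊥ ∨ N = ⊤) {p : ℕ} [Fact p.Prime]
    (hnp : ¬ IsPGroup p G) (U : Subgroup G) (hU : IsPGroup p U) (hUi : IsInv A U) (hU0 : U ≠ ⊥) :
    ∃ P : Sylow p G, IsInv A (P : Subgroup G) := by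
  obtain ⟨W, hUW, hW⟩ := (Set.toFinite {W : Subgroup G | IsPGroup p W ∧ IsInv A W}).exists_le_maximal
    (a := U) ⟨hU, hUi⟩
  obtain ⟨⟨hWp, hWi⟩, hmax⟩ := hW
  have hNt : Subgroup.normalizer (W : Set G) ≠ ⊤ := by
    intro ht
    rcases hsimple W (Subgroup.normalizer_eq_top_iff.1 ht) hWi with h | h
    · exact hU0 (le_bot_iff.1 (h ▸ hUW))
    · exact hnp (IsPGroup.of_equiv (h ▸ hWp : IsPGroup p (⊤ : Subgroup G)) Subgroup.topEquiv)
  obtain ⟨W', hW'N, hW'p, hW'i, hall⟩ :=
    exists_part hWi.normalizer (isNilpotent_of_lt hb hfix hnil hWi.normalizer hNt) p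
  have hWW' : W ≤ W' := fun x hx => hall x (Subgroup.le_normalizer hx) (exists_pow_eq_one hWp hx)
  have heq : W' ≤ W := hmax ⟨hW'p, hW'i⟩ hWW'
  obtain ⟨P, hP⟩ := hWp.exists_le_sylow
  suffices (P : Subgroup G) = W from ⟨P, this ▸ hWi⟩
  refine le_antisymm ?_ hP
  by_contra hnle
  have hlt : W.subgroupOf P < ⊤ :=
    lt_top_iff_ne_top.2 fun h => hnle (Subgroup.subgroupOf_eq_top.1 h)
  haveI : Group.IsNilpotent (P : Subgroup G) := P.isPGroup'.isNilpotent
  obtain ⟨x, hxN, hxW⟩ :=
    SetLike.exists_of_lt (Group.normalizerCondition_of_isNilpotent (W.subgroupOf P) hlt)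
  apply hxW
  refine Subgroup.mem_subgroupOf.2 (heq (hall _ ?_ (exists_pow_eq_one P.isPGroup' x.2)))
  rw [Subgroup.mem_normalizer_iff] at hxN ⊢
  intro y
  constructor
  · intro hy
    simpa [Subgroup.mem_subgroupOf] using
      (hxN ⟨y, hP hy⟩).1 (by simpa [Subgroup.mem_subgroupOf] using hy)
  · intro hy
    have hy' : y ∈ (P : Subgroup G) := by
      have := (P : Subgroup G).mul_mem ((P : Subgroup G).mul_mem ((P : Subgroup G).inv_mem x.2) (hP hy)) x.2
      simpa [mul_assoc] using this
    simpa [Subgroup.mem_subgroupOf] using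
      (hxN ⟨y, hy'⟩).2 (by simpa [Subgroup.mem_subgroupOf] using hy)

omit [Finite A] in
/-- The fixed points of a `p`-group of operators are congruent to the order. -/
theorem dvd_card_fixSub {p : ℕ} [Fact p.Prime] {R : Subgroup A} (hR : IsPGroup p R)
    (K : Subgroup G) (hK : IsInv A K) (hp : p ∣ Nat.card K) : p ∣ Nat.card ↥(fixSub R G ⊓ K) := by
  letI : MulDistribMulAction R K := subAct (fun (r : R) n hn => hK r n hn : IsInv R K)
  have h1 := hR.card_modEq_card_fixedPoints K
  have e : Nat.card (MulAction.fixedPoints R K) = Nat.card ↥(fixSub R G ⊓ K) :=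
    Nat.card_congr
      { toFun := fun x => ⟨((x : K) : G), fun r hr => congrArg Subtype.val (x.2 ⟨r, hr⟩), (x : K).2⟩
        invFun := fun x => ⟨⟨(x : G), x.2.2⟩, fun r => Subtype.ext (x.2.1 r r.2)⟩
        left_inv := fun _ => rfl
        right_inv := fun _ => rfl }
  rw [← e]
  exact Nat.modEq_zero_iff_dvd.1 (h1.symm.trans (Nat.modEq_zero_iff_dvd.2 hp))

omit [Finite A] [Finite G] in
/-- The image of a subgroup mapped into itself both ways. -/
theorem smul_subgroup_eq {a : A} {P : Subgroup G} (h : ∀ y ∈ P, a • y ∈ P ∧ a⁻¹ • y ∈ P) :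
    a • P = P := by
  ext y
  rw [Subgroup.mem_pointwise_smul_iff_inv_smul_mem]
  exact ⟨fun hy => by simpa using (h _ hy).1, fun hy => (h y hy).2⟩

omit [Finite A] [Finite G] in
/-- Operators and conjugation on Sylow subgroups. -/
theorem smul_conj_sylow {p : ℕ} (a : A) (g : G) (P : Sylow p G) :
    a • g • P = (a • g) • a • P := by
  refine Sylow.ext (Subgroup.ext fun y => ?_)
  simp only [Sylow.coe_subgroup_smul, Sylow.pointwise_smul_def,
    Subgroup.mem_pointwise_smul_iff_inv_smul_mem, MulAut.smul_def]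
  simp [smul_mul']

/-- Some odd prime has an invariant Sylow subgroup when there are no invariant normal subgroups. -/
theorem exists_odd_inv_sylow (hA : OpData F H) (hb : Below.{u} F H (Nat.card G))
    (hfix : ∀ g : G, (∀ f ∈ F, f • g = g) → g = 1) (hnil : Group.IsNilpotent (fixSub H G))
    (hsimple : ∀ N : Subgroup G, N.Normal → IsInv A N → N = ⊥ ∨ N = ⊤)
    (hns : ¬ Group.IsSolvable G) :
    ∃ (p : ℕ) (_ : Fact p.Prime), p ≠ 2 ∧ p ∣ Nat.card G ∧ ∃ P : Sylow p G, IsInv A (P : Subgroup G) := by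
  haveI := hA.normal
  have hnp : ∀ p : ℕ, p.Prime → ¬ IsPGroup p G := fun p hp h => by
    haveI := Fact.mk hp
    haveI := h.isNilpotent
    exact hns inferInstance
  suffices h : ∃ (p : ℕ) (_ : Fact p.Prime), p ≠ 2 ∧ p ∣ Nat.card G ∧
      ((∃ U : Subgroup G, IsPGroup p U ∧ IsInv A U ∧ U ≠ ⊥) ∨ ∃ P : Sylow p G, IsInv A (P : Subgroup G)) by
    obtain ⟨p, hp, hp2, hpd, ⟨U, hU, hUi, hU0⟩ | hP⟩ := h
    · exact ⟨p, hp, hp2, hpd, exists_inv_sylow hb hfix hnil hsimple (hnp p hp.out) U hU hUi hU0⟩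
    · exact ⟨p, hp, hp2, hpd, hP⟩
  obtain ⟨S, ⟨hSn, hSF, hSfix⟩, hSmin⟩ := WellFounded.has_min wellFounded_lt
    {S : Subgroup A | S.Normal ∧ S ≤ F ∧ ∀ g : G, (∀ s ∈ S, s • g = g) → g = 1}
    ⟨F, hA.normal, le_rfl, hfix⟩
  haveI := hSn
  haveI : Group.IsNilpotent F := hA.nilpotent
  haveI hSnil : Group.IsNilpotent S :=
    isNilpotent_of_injective_hom' (Subgroup.inclusion hSF) (Subgroup.inclusion_injective hSF)
  -- a prime divisor of a proper invariant subgroup gives an invariant subgroup of that prime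
  have key : ∀ (Y : Subgroup G), IsInv A Y → Y ≠ ⊤ → ∀ q : ℕ, q.Prime → q ∣ Nat.card Y →
      ∃ U : Subgroup G, IsPGroup q U ∧ IsInv A U ∧ U ≠ ⊥ := by
    intro Y hY hYt q hq hqd
    haveI := Fact.mk hq
    obtain ⟨U, -, hUp, hUi, hall⟩ := exists_part hY (isNilpotent_of_lt hb hfix hnil hY hYt) q
    refine ⟨U, hUp, hUi, fun h => ?_⟩
    obtain ⟨⟨z, hz⟩, hzo⟩ := exists_prime_orderOf_dvd_card' q hqd
    rw [Subgroup.orderOf_mk] at hzo
    have := hall z hz ⟨1, by rw [pow_one, ← hzo]; exact pow_orderOf_eq_one z⟩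
    rw [h, Subgroup.mem_bot] at this
    rw [this, orderOf_one] at hzo
    exact hq.ne_one hzo.symm
  by_cases hcop : (Nat.card S).Coprime (Nat.card G)
  · obtain ⟨p, hp, hp2, hpd⟩ : ∃ p : ℕ, p.Prime ∧ p ≠ 2 ∧ p ∣ Nat.card G := by
      by_contra hno
      push Not at hno
      haveI := Fact.mk Nat.prime_two
      refine hnp 2 Nat.prime_two (IsPGroup.of_card (n := (Nat.card G).primeFactorsList.length) ?_)
      refine Nat.eq_prime_pow_of_unique_prime_dvd Nat.card_pos.ne' fun {d} hd hdd => ?_
      by_contra hd2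
      exact hno d hd hd2 hdd
    haveI := Fact.mk hp
    refine ⟨p, ⟨hp⟩, hp2, hpd, Or.inr ?_⟩
    obtain ⟨P, hP⟩ := Coprime85.exists_invariant_sylow (A := S) hcop
      (Or.inl inferInstance) p
    refine ⟨P, fun a x hx => ?_⟩
    have hPS : IsInv S (P : Subgroup G) := hP
    have hQ : a • P = P := by
      obtain ⟨g, hg⟩ := MulAction.exists_smul_eq G P (a • P)
      have hPfix : ∀ s ∈ S, s • P = P := fun s hs =>
        Sylow.ext (smul_subgroup_eq fun y hy => ⟨hP ⟨s, hs⟩ y hy,
          hP ⟨s⁻¹, S.inv_mem hs⟩ y hy⟩)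
      have hM : IsInv S (Subgroup.normalizer ((P : Subgroup G) : Set G)) := hPS.normalizer
      have := mem_of_fixed_coset_coprime hcop inferInstance
        (fun y hy => hSfix y fun s hs => hy ⟨s, hs⟩) _ hM g fun s => by
          refine Sylow.smul_eq_iff_mem_normalizer.1 ?_
          rw [mul_smul, inv_smul_eq_iff]
          calc (s • g) • P = ((s : A) • g) • ((s : A) • P) := by rw [hPfix s s.2]; rfl
            _ = (s : A) • g • P := (smul_conj_sylow _ g P).symm
            _ = a • (a⁻¹ * (s : A) * a) • P := by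
              rw [hg, ← mul_smul, ← mul_smul]; congr 1; group
            _ = g • P := by rw [hPfix _ (by simpa using hSn.conj_mem s s.2 a⁻¹), hg]
      rw [← hg, Sylow.smul_eq_iff_mem_normalizer.2 this]
    have := Subgroup.smul_mem_pointwise_smul x a (P : Subgroup G) hx
    rwa [← Sylow.pointwise_smul_def, hQ] at this
  · obtain ⟨r, hr, hrS, hrG⟩ := Nat.Prime.not_coprime_iff_dvd.1 hcop
    haveI := Fact.mk hr
    obtain ⟨P⟩ : Nonempty (Sylow r S) := inferInstance
    haveI : (P : Subgroup S).Normal :=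
      ((Group.isNilpotent_of_finite_tfae (G := S)).out 0 3 rfl rfl).1 hSnil r inferInstance P
    haveI : (P : Subgroup S).Characteristic := P.characteristic_of_normal inferInstance
    have hO : ¬ r ∣ Nat.card (Cfsg.pResidual r S) := Transfer.hasNormalPComplement_iff.1
      (Frobenius.Auto.hasNormalPComplement_of_isNilpotent r)
    haveI : (Cfsg.pResidual r S).Characteristic := Transfer.pResidual_characteristic
    have hcompl := Transfer.isComplement'_of_coprime (Cfsg.pResidual r S) hO
      (Transfer.isPGroup_quotient_of_pResidual_le _ le_rfl) P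
    obtain ⟨R, hR⟩ : ∃ R : Subgroup A, R = (P : Subgroup S).map S.subtype := ⟨_, rfl⟩
    obtain ⟨R', hR'⟩ : ∃ R' : Subgroup A, R' = (Cfsg.pResidual r S).map S.subtype := ⟨_, rfl⟩
    haveI hRn : R.Normal := hR ▸ inferInstance
    haveI hR'n : R'.Normal := hR' ▸ inferInstance
    have hRS : R ⊔ R' = S := by
      rw [hR, hR', ← Subgroup.map_sup, sup_comm, hcompl.sup_eq_top, ← MonoidHom.range_eq_map,
        Subgroup.range_subtype]
    have hboth : ∀ g : G, g ∈ fixSub R G → g ∈ fixSub R' G → g = 1 := by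
      intro g h1 h2
      refine hSfix g fun s hs => ?_
      have hle : R ⊔ R' ≤ MulAction.stabilizer A g :=
        sup_le (fun x hx => h1 x hx) fun x hx => h2 x hx
      exact hle (hRS.ge hs)
    have hRp : IsPGroup r R := hR ▸ P.isPGroup'.map _
    -- the residual has fixed points, so does `R`
    have hR'lt : R' < S := by
      refine lt_of_le_of_ne (hR' ▸ Subgroup.map_subtype_le _) fun h => hO ?_
      rw [← Subgroup.card_map_of_injective S.subtype_injective, ← hR', h]
      exact hrS
    obtain ⟨y, hy, hy1⟩ : ∃ y, y ∈ fixSub R' G ∧ y ≠ 1 := by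
      by_contra hno
      push Not at hno
      exact hSmin R' ⟨hR'n, hR'lt.le.trans hSF, fun g hg => hno g hg⟩ hR'lt
    have hY' : fixSub R' G ≠ ⊤ := by
      intro ht
      have h1 := dvd_card_fixSub (G := G) hRp ⊤ (fun a n _ => Subgroup.mem_top _)
        (by rwa [Subgroup.card_top])
      have h2 : fixSub R G ⊓ ⊤ = ⊥ := (Subgroup.eq_bot_iff_forall _).2
        fun g hg => hboth g hg.1 (ht ▸ Subgroup.mem_top g)
      rw [h2, Subgroup.card_bot] at h1
      exact hr.ne_one (Nat.dvd_one.1 h1)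
    by_cases hr2 : r = 2
    · have hodd : ¬ r ∣ Nat.card (fixSub R' G) := by
        intro hd
        have h1 := dvd_card_fixSub (G := G) hRp (fixSub R' G) isInv_fixSub hd
        have h2 : fixSub R G ⊓ fixSub R' G = ⊥ := (Subgroup.eq_bot_iff_forall _).2
          fun g hg => hboth g hg.1 hg.2
        rw [h2, Subgroup.card_bot] at h1
        exact hr.ne_one (Nat.dvd_one.1 h1)
      obtain ⟨q, hq, hqd⟩ := Nat.exists_prime_and_dvd (n := Nat.card (fixSub R' G)) fun h =>
        hy1 (Subgroup.mem_bot.1 (Subgroup.card_eq_one.1 h ▸ hy))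
      exact ⟨q, ⟨hq⟩, fun h => hodd (hr2 ▸ h ▸ hqd), hqd.trans (Subgroup.card_subgroup_dvd_card _),
        Or.inl (key _ isInv_fixSub hY' q hq hqd)⟩
    · refine ⟨r, ⟨hr⟩, hr2, hrG, Or.inl (key (fixSub R G) isInv_fixSub ?_ r hr ?_)⟩
      · exact fun ht => hy1 (hboth y (ht ▸ Subgroup.mem_top y) hy)
      · have h1 := dvd_card_fixSub (G := G) hRp ⊤ (fun a n _ => Subgroup.mem_top _)
          (by rwa [Subgroup.card_top])
        rwa [inf_top_eq] at h1

/-- The minimal counterexample is soluble. -/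
theorem isSolvable_of_below (hA : OpData F H) (hb : Below.{u} F H (Nat.card G))
    (hfix : ∀ g : G, (∀ f ∈ F, f • g = g) → g = 1) (hnil : Group.IsNilpotent (fixSub H G)) :
    Group.IsSolvable G := by
  by_contra hns
  have hsimple : ∀ N : Subgroup G, N.Normal → IsInv A N → N = ⊥ ∨ N = ⊤ := by
    intro N hN hNi
    by_contra hcon
    push Not at hcon
    haveI := isNilpotent_of_lt hb hfix hnil hNi hcon.2
    obtain ⟨V, p, hp, hVn, hVi, hV0, -, hVc, hVe⟩ := exists_elementary_inv N hNi hcon.1 inferInstance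
    haveI := Fact.mk hp
    haveI := hVn
    haveI := isNilpotent_quotient hA hb hfix hnil hVi hV0 hVc hVe
    haveI : Group.IsSolvable V := by
      letI := commSub V hVc
      exact Group.isSolvable_of_comm fun a b => mul_comm a b
    exact hns (Group.isSolvable_of_ker_le_range V.subtype (QuotientGroup.mk' V) (by simp))
  obtain ⟨p, hp, hp2, hpd, P, hP⟩ := exists_odd_inv_sylow hA hb hfix hnil hsimple hns
  have hZi : IsInv A (PLocal.zj 0 (P : Subgroup G)) := by
    intro a x hx
    have h1 := PLocal.zj_map_of_injOn (e := 0) (MulDistribMulAction.toMonoidHom G a) (P : Subgroup G)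
      (fun u w h => Subtype.ext ((MulAction.injective a) h))
    rw [hP.map_eq] at h1
    rw [h1]
    exact ⟨x, hx, rfl⟩
  have hPne : (P : Subgroup G) ≠ ⊥ := by
    intro h
    have := P.card_eq_multiplicity
    rw [h, Subgroup.card_bot] at this
    have h2 : 0 < (Nat.card G).factorization p := hp.out.factorization_pos_of_dvd Nat.card_pos.ne' hpd
    exact (Nat.one_lt_pow h2.ne' hp.out.one_lt).ne this
  have hPtop : (P : Subgroup G) ≠ ⊤ := by
    intro h
    haveI := (IsPGroup.of_equiv (h ▸ P.isPGroup' : IsPGroup p (⊤ : Subgroup G)) Subgroup.topEquiv).isNilpotent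
    exact hns inferInstance
  have hN : Subgroup.normalizer (PLocal.zj 0 (P : Subgroup G) : Set G) ≠ ⊤ := by
    intro ht
    rcases hsimple _ (Subgroup.normalizer_eq_top_iff.1 ht) hZi with h | h
    · exact Frobenius.ZJComp.zj_ne_bot (Or.inl rfl) P.isPGroup' hPne h
    · exact hPtop (top_le_iff.1 (h ▸ PLocal.zj_le 0 _))
  haveI := isNilpotent_of_lt hb hfix hnil hZi.normalizer hN
  have hG := Transfer.hasNormalPComplement_iff.1 (Frobenius.ZJComp.hasNormalPComplement_of_zj hp2
    (Or.inl rfl) P (Frobenius.Auto.hasNormalPComplement_of_isNilpotent p))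
  have hKi : IsInv A (Cfsg.pResidual p G) := IsInv.closure fun a x hx => Subgroup.subset_closure
    (show Nat.Coprime (orderOf (MulDistribMulAction.toMonoidHom G a x)) p by
      rw [orderOf_injective _ (MulAction.injective a) x]; exact hx)
  rcases hsimple _ Transfer.pResidual_normal hKi with h | h
  · apply hns
    haveI := Transfer.pResidual_normal (G := G) (p := p)
    have hq : IsPGroup p (G ⧸ Cfsg.pResidual p G) :=
      Transfer.isPGroup_quotient_of_pResidual_le _ le_rfl
    haveI := (hq.of_equiv ((QuotientGroup.quotientMulEquivOfEq h).trans QuotientGroup.quotientBot)).isNilpotent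
    infer_instance
  · rw [h, Subgroup.card_top] at hG
    exact hG hpd

end CfsgLib.FrobAut20
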