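import Cfsg.Agent.Lib.FrobAut20.Main

/-!
# The soluble case and the theorem
-/

namespace CfsgLib.FrobAut20

set_option linter.style.haveILetI false
open Pointwise

universe u v

variable {A : Type v} [Group A] [Finite A] {F H : Subgroup A}
variable {G : Type u} [Group G] [Finite G] [MulDistribMulAction A G]

omit [Finite A] [MulDistribMulAction A G] in
/-- In a nilpotent subgroup elements of relatively prime orders commute. -/
theorem mul_comm_of_mem {N : Subgroup G} (hN : Group.IsNilpotent N) {p q : ℕ} [Fact p.Prime]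
    [Fact q.Prime] (hpq : p ≠ q) {U W : Subgroup G} (hU : IsPGroup p U) (hW : IsPGroup q W)
    {x y : G} (hx : x ∈ U) (hxN : x ∈ N) (hy : y ∈ W) (hyN : y ∈ N) : x * y = y * x :=
  (CfsgLib.Solvable.EigenChain.commute_of_coprime hN hxN hyN (Fact.out : p.Prime) (Fact.out : q.Prime) hpq
    (exists_pow_eq_one hU hx) (exists_pow_eq_one hW hy)).eq

/-- The final configuration `G = V Q` is impossible. -/
theorem false_of_faithful (hA : OpData F H) (hb : Below.{u} F H (Nat.card G))
    (hfix : ∀ g : G, (∀ f ∈ F, f • g = g) → g = 1) (hnil : Group.IsNilpotent (fixSub H G))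
    {p q : ℕ} [Fact p.Prime] [Fact q.Prime] (hpq : p ≠ q) (V Q : Subgroup G) [V.Normal]
    (hVi : IsInv A V) (hVc : ∀ x ∈ V, ∀ y ∈ V, x * y = y * x) (hVe : ∀ v ∈ V, v ^ p = 1)
    (hQi : IsInv A Q) (hQ : IsPGroup q Q) (hQ0 : Q ≠ ⊥) (hVQ : V ⊓ Q = ⊥)
    (hfaith : Q ⊓ Subgroup.centralizer (V : Set G) = ⊥) : False := by
  classical
  haveI := hnil
  have hVp : IsPGroup p V := fun v => ⟨1, Subtype.ext (by simpa using hVe v v.2)⟩
  -- proper invariant subgroups of `Q` centralise `V`
  have hprop : ∀ Q₀ ≤ Q, IsInv A Q₀ → Q₀ ≠ Q → Q₀ = ⊥ := by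
    intro Q₀ hle hi hne
    have hne' : V ⊔ Q₀ ≠ ⊤ := by
      intro ht
      refine hne (le_antisymm hle fun x hx => ?_)
      have hx' : x ∈ V ⊔ Q₀ := ht ▸ Subgroup.mem_top x
      rw [← SetLike.mem_coe, Subgroup.normal_mul] at hx'
      obtain ⟨v, hv, y, hy, rfl⟩ := hx'
      have hvQ : v ∈ V ⊓ Q :=
        ⟨hv, by simpa using Q.mul_mem hx (Q.inv_mem (hle hy))⟩
      rw [hVQ, Subgroup.mem_bot] at hvQ
      simpa [hvQ] using hy
    have hn := isNilpotent_of_lt hb hfix hnil (hVi.sup hi) hne'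
    refine le_bot_iff.1 (hfaith ▸ le_inf hle fun y hy => Subgroup.mem_centralizer_iff.2 fun v hv => ?_)
    exact mul_comm_of_mem hn hpq hVp (hQ.to_le hle) hv (Subgroup.mem_sup_left hv) hy
      (Subgroup.mem_sup_right hy)
  -- `Q` is abelian of exponent `q`
  haveI : Group.IsNilpotent Q := hQ.isNilpotent
  haveI : Nontrivial Q := (Subgroup.nontrivial_iff_ne_bot Q).2 hQ0
  have hQc : ∀ x ∈ Q, ∀ y ∈ Q, x * y = y * x := by
    have h1 : IsInv A ⁅Q, Q⁆ := by
      intro a x hx
      have h : ⁅Q, Q⁆.map (MulDistribMulAction.toMonoidHom G a) = ⁅Q, Q⁆ := by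
        rw [Subgroup.map_commutator, hQi.map_eq]
      rw [← h]; exact ⟨x, hx, rfl⟩
    have h2 : ⁅Q, Q⁆ ≤ Q := Subgroup.commutator_le_self Q
    have h3 : ⁅Q, Q⁆ ≠ Q := by
      intro h
      haveI : Group.IsSolvable Q := inferInstance
      have hlt := Group.IsSolvable.commutator_lt_top_of_nontrivial (G := Q)
      refine hlt.ne (Subgroup.map_injective Q.subtype_injective ?_)
      rw [Subgroup.map_subtype_commutator, h, ← MonoidHom.range_eq_map, Subgroup.range_subtype]
    have h4 := hprop _ h2 h1 h3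
    intro x hx y hy
    have h5 := Subgroup.commutator_mem_commutator hx hy
    rw [h4, Subgroup.mem_bot] at h5
    exact (commutatorElement_eq_one_iff_commute.1 h5).eq
  have hQe : ∀ x ∈ Q, x ^ q = 1 := by
    let Ω : Subgroup G :=
      { carrier := {x | x ∈ Q ∧ x ^ q = 1}
        one_mem' := ⟨Q.one_mem, one_pow q⟩
        mul_mem' := fun {x y} hx hy => ⟨Q.mul_mem hx.1 hy.1, by
          rw [(show Commute x y from hQc x hx.1 y hy.1).mul_pow, hx.2, hy.2, one_mul]⟩
        inv_mem' := fun {x} hx => ⟨Q.inv_mem hx.1, by rw [inv_pow, hx.2, inv_one]⟩ }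
    have hne : Ω ≠ ⊥ := by
      obtain ⟨n, hn, hcard⟩ := hQ.nontrivial_iff_card.1 inferInstance
      obtain ⟨⟨z, hz⟩, hzo⟩ := exists_prime_orderOf_dvd_card' q (hcard ▸ dvd_pow_self q hn.ne')
      rw [Subgroup.orderOf_mk] at hzo
      intro hbot
      have : z ∈ Ω := ⟨hz, by rw [← hzo]; exact pow_orderOf_eq_one z⟩
      rw [hbot, Subgroup.mem_bot] at this
      rw [this, orderOf_one] at hzo
      exact (Fact.out : q.Prime).ne_one hzo.symm
    have hΩ : Ω = Q := by
      by_contra h
      exact hne (hprop Ω (fun x hx => hx.1)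
        (fun a x hx => ⟨hQi a x hx.1, by rw [← smul_pow', hx.2, smul_one]⟩) h)
    exact fun x hx => (hΩ.ge hx : x ∈ Ω).2
  -- the weight argument
  letI := commSub Q hQc
  letI := commSub V hVc
  letI := subAct hQi
  letI := subAct hVi
  letI : MulDistribMulAction Q V :=
    MulDistribMulAction.compHom V ((MulAut.conjNormal (H := V)).comp Q.subtype)
  haveI : Fintype H := Fintype.ofFinite H
  obtain ⟨-, -, htr⟩ := exists_trace_hom (A := A) (V := Q) (p := q)
    (fun x => Subtype.ext (hQe x x.2)) F H hA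
    fun x hx => Subtype.ext (hfix x fun f hf => congrArg Subtype.val (hx f hf))
  obtain ⟨w, hw⟩ := htr inferInstance
  obtain ⟨c, hc⟩ : ∃ c : Q, c = ∏ h : H, (h : A) • w := ⟨_, rfl⟩
  have hcfix : ∀ h ∈ H, h • c = c := fun h hh => by
    rw [hc, Finset.smul_prod']
    refine Fintype.prod_equiv (Equiv.mulLeft (⟨h, hh⟩ : H)) _ _ fun g => ?_
    rw [Equiv.coe_mulLeft, Subgroup.coe_mul, ← mul_smul]
  have hcV : (c : G) ∈ Q ⊓ Subgroup.centralizer (V : Set G) := by
    refine ⟨c.2, Subgroup.mem_centralizer_iff.2 fun v hv => ?_⟩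
    have h1 := smul_eq_self_of_fixes (A := A) (V := V) (Q := Q) (p := p)
      (fun x => Subtype.ext (hVe x x.2))
      (fun a x u => Subtype.ext (by
        show a • ((x : G) * (u : G) * (x : G)⁻¹) = (a • (x : G)) * a • (u : G) * (a • (x : G))⁻¹
        rw [smul_mul', smul_mul', smul_inv']))
      F H hA (by
        obtain ⟨n, hn⟩ := hQ.exists_card_eq
        rw [hn]
        exact ((Nat.coprime_primes Fact.out Fact.out).2 hpq.symm).pow_left n)
      (fun x hx => Subtype.ext (hfix x fun f hf => congrArg Subtype.val (hx f hf))) c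
      (fun u hu => Subtype.ext (by
        show (c : G) * (u : G) * (c : G)⁻¹ = u
        rw [mul_inv_eq_iff_eq_mul]
        exact (mul_comm_of_mem hnil hpq hVp hQ u.2 (fun h hh => congrArg Subtype.val (hu h hh))
          c.2 (fun h hh => congrArg Subtype.val (hcfix h hh))).symm)) ⟨v, hv⟩
    have h2 : (c : G) * v * (c : G)⁻¹ = v := congrArg Subtype.val h1
    rw [mul_inv_eq_iff_eq_mul] at h2
    exact h2.symm
  rw [hfaith, Subgroup.mem_bot] at hcV
  exact hw (hc ▸ Subtype.ext hcV)

/-- The soluble minimal counterexample does not exist. -/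
theorem isNilpotent_step (hA : OpData F H) (hb : Below.{u} F H (Nat.card G))
    (hfix : ∀ g : G, (∀ f ∈ F, f • g = g) → g = 1) (hnil : Group.IsNilpotent (fixSub H G)) :
    Group.IsNilpotent G := by
  classical
  haveI := hA.normal
  haveI := hA.nilpotent
  rcases subsingleton_or_nontrivial G with hG | hG
  · infer_instance
  haveI := isSolvable_of_below hA hb hfix hnil
  obtain ⟨V, p, hp, hVn, hVi, hV0, -, hVc, hVe⟩ :=
    exists_elementary_inv (A := A) (⊤ : Subgroup G) (fun _ n _ => Subgroup.mem_top _) top_ne_bot inferInstance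
  haveI := Fact.mk hp
  haveI := hVn
  haveI hGV := isNilpotent_quotient hA hb hfix hnil hVi hV0 hVc hVe
  have hVp : IsPGroup p V := fun v => ⟨1, Subtype.ext (by simpa using hVe v v.2)⟩
  have hsupn : ∀ (q : ℕ) [Fact q.Prime] (P : Sylow q G), ((P : Subgroup G) ⊔ V).Normal := by
    intro q _ P
    have hfs := QuotientGroup.mk'_surjective V
    have h1 : ((P.mapSurjective hfs : Sylow q (G ⧸ V)) : Subgroup (G ⧸ V)).Normal :=
      ((Group.isNilpotent_of_finite_tfae (G := G ⧸ V)).out 0 3 rfl rfl).1 hGV q inferInstance _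
    rw [Sylow.coe_mapSurjective] at h1
    have h2 := h1.comap (QuotientGroup.mk' V)
    rwa [Subgroup.comap_map_eq, QuotientGroup.ker_mk'] at h2
  rw [(Group.isNilpotent_of_finite_tfae (G := G)).out 0 3 rfl rfl]
  intro q hq P
  by_cases hqp : q = p
  · subst hqp
    have h1 := hsupn q P
    rwa [sup_eq_left.2 (hVp.le_sylow_of_normal P)] at h1
  haveI := hsupn q P
  obtain ⟨L, hL⟩ : ∃ L : Subgroup G, L = (P : Subgroup G) ⊔ V := ⟨_, rfl⟩
  haveI hLn : L.Normal := hL ▸ hsupn q P
  have hLi : IsInv A L := by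
    intro a x hx
    have hQL : ∀ R : Sylow q G, (R : Subgroup G) ≤ L := fun R => by
      obtain ⟨g, rfl⟩ := MulAction.exists_smul_eq G P R
      intro y hy
      rw [Sylow.coe_subgroup_smul, Subgroup.mem_pointwise_smul_iff_inv_smul_mem] at hy
      have h1 : (MulAut.conj g)⁻¹ • y ∈ L := hL ▸ Subgroup.mem_sup_left hy
      have h2 := hLn.conj_mem _ h1 g
      simpa [MulAut.smul_def, mul_assoc] using h2
    have h1 : L ≤ L.comap (MulDistribMulAction.toMonoidHom G a) := by
      rw [hL]
      refine sup_le (fun y hy => ?_) fun y hy => Subgroup.mem_sup_right (hVi a y hy)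
      exact hL ▸ hQL (a • P) (Subgroup.smul_mem_pointwise_smul y a _ hy)
    exact h1 hx
  by_cases hLt : L = ⊤
  swap
  · haveI := isNilpotent_of_lt hb hfix hnil hLi hLt
    have hPL : (P : Subgroup G) ≤ L := hL ▸ le_sup_left
    haveI : (P.subtype hPL : Subgroup L).Normal :=
      ((Group.isNilpotent_of_finite_tfae (G := L)).out 0 3 rfl rfl).1 inferInstance q inferInstance _
    haveI : (P.subtype hPL : Subgroup L).Characteristic := Sylow.characteristic_of_normal _ inferInstance
    have h1 : ((P.subtype hPL : Subgroup L).map L.subtype).Normal :=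
      ConjAct.normal_of_characteristic_of_normal
    rwa [Sylow.coe_subtype, Subgroup.map_subgroupOf_eq_of_le hPL] at h1
  -- now `G = V P`
  by_cases hZ : V ⊓ Subgroup.center G ≠ ⊥
  · haveI : (V ⊓ Subgroup.center G).Normal := inferInstance
    haveI := isNilpotent_quotient hA hb hfix hnil (p := p) (N := V ⊓ Subgroup.center G)
      (hVi.inf isInv_center) hZ (fun x hx y hy => hVc x hx.1 y hy.1) (fun x hx => hVe x hx.1)
    haveI hGn : Group.IsNilpotent G := Subgroup.isNilpotent_of_ker_le_center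
      (QuotientGroup.mk' (V ⊓ Subgroup.center G)) (by rw [QuotientGroup.ker_mk']; exact inf_le_right)
    exact ((Group.isNilpotent_of_finite_tfae (G := G)).out 0 3 rfl rfl).1 hGn q inferInstance P
  push Not at hZ
  have hVP : V ⊓ (P : Subgroup G) = ⊥ :=
    (IsPGroup.disjoint_of_ne p q (Ne.symm hqp) _ _ hVp P.isPGroup').eq_bot
  -- `V` is regular on the conjugates of `P`
  have huniq : ∀ (R : Sylow q G) (v : G), v ∈ V → v • R = R → v = 1 := by
    intro R v hv hvR
    obtain ⟨g, rfl⟩ := MulAction.exists_smul_eq G P R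
    obtain ⟨u, hu⟩ : ∃ u, u = g⁻¹ * v * g := ⟨_, rfl⟩
    have huV : u ∈ V := hu ▸ by simpa using hVn.conj_mem v hv g⁻¹
    have huP : u • P = P := by rw [hu, mul_smul, mul_smul, hvR, inv_smul_smul]
    rw [Sylow.smul_eq_iff_mem_normalizer] at huP
    have hcomm : ∀ x ∈ (P : Subgroup G), u * x = x * u := by
      intro x hx
      have h1 : u * x * u⁻¹ * x⁻¹ ∈ V ⊓ (P : Subgroup G) := by
        refine ⟨?_, (P : Subgroup G).mul_mem ((Subgroup.mem_normalizer_iff.1 huP x).1 hx)
          ((P : Subgroup G).inv_mem hx)⟩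
        have h2 := hVn.conj_mem _ (V.inv_mem huV) x
        have h3 := V.mul_mem huV h2
        simpa [mul_assoc] using h3
      rw [hVP, Subgroup.mem_bot, mul_inv_eq_one, mul_inv_eq_iff_eq_mul] at h1
      exact h1
    have huc : u ∈ V ⊓ Subgroup.center G := by
      refine ⟨huV, Subgroup.mem_center_iff.2 fun y => ?_⟩
      have hle : (P : Subgroup G) ⊔ V ≤ Subgroup.centralizer ({u} : Set G) :=
        sup_le (fun x hx => Subgroup.mem_centralizer_singleton_iff.2 (hcomm x hx).symm)
          fun x hx => Subgroup.mem_centralizer_singleton_iff.2 (hVc x hx u huV)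
      exact Subgroup.mem_centralizer_singleton_iff.1 (hle (hL ▸ hLt ▸ Subgroup.mem_top y))
    rw [hZ, Subgroup.mem_bot, hu] at huc
    calc v = g * (g⁻¹ * v * g) * g⁻¹ := by group
      _ = 1 := by rw [huc]; group
  have hex : ∀ R : Sylow q G, ∃ v ∈ V, v • P = R := by
    intro R
    obtain ⟨g, rfl⟩ := MulAction.exists_smul_eq G P R
    have hg : g ∈ V ⊔ (P : Subgroup G) := by rw [sup_comm, ← hL, hLt]; exact Subgroup.mem_top g
    rw [← SetLike.mem_coe, Subgroup.normal_mul] at hg
    obtain ⟨v, hv, x, hx, rfl⟩ := hg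
    exact ⟨v, hv, by rw [mul_smul, Sylow.smul_eq_iff_mem_normalizer.2 (Subgroup.le_normalizer hx)]⟩
  -- an invariant Sylow `q`-subgroup
  letI := commSub V hVc
  letI := subAct hVi
  obtain ⟨S, hSn, hSF, hScop, hSfix⟩ := exists_coprime_fpf (A := A) (V := V) (p := p)
    (fun v => Subtype.ext (hVe v v.2)) F fun v hv => Subtype.ext
      (hfix v fun f hf => congrArg Subtype.val (hv f hf))
  choose d hd hdP using fun s : S => hex ((s : A) • P)
  letI : MulDistribMulAction S V := subAct (fun (s : S) n hn => hVi s n hn : IsInv S V)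
  obtain ⟨n, hn⟩ := exists_of_cocycle (p := p) (fun v : V => Subtype.ext (hVe v v.2)) hScop
    (fun s : S => (⟨d s, hd s⟩ : V)) fun a b => Subtype.ext (by
      show d (a * b) = d a * (a : A) • d b
      have h1 : ((a : A) • d b * d a) • P = d (a * b) • P := by
        rw [mul_smul, hdP, ← smul_conj_sylow, hdP, hdP, ← mul_smul]; rfl
      have h2 := huniq P ((d (a * b))⁻¹ * ((a : A) • d b * d a))
        (V.mul_mem (V.inv_mem (hd _)) (V.mul_mem (hVi _ _ (hd b)) (hd a)))
        (by rw [mul_smul, h1, inv_smul_smul])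
      rw [inv_mul_eq_one] at h2
      rw [h2]
      exact hVc _ (hVi _ _ (hd b)) _ (hd a))
  obtain ⟨Q, hQdef⟩ : ∃ Q : Sylow q G, Q = (n : G) • P := ⟨_, rfl⟩
  have hQS : ∀ s ∈ S, s • Q = Q := by
    intro s hs
    have h1 : s • (n : G) = (n : G) * (d ⟨s, hs⟩)⁻¹ := congrArg Subtype.val (hn ⟨s, hs⟩)
    rw [hQdef, smul_conj_sylow, h1, ← hdP ⟨s, hs⟩, ← mul_smul, inv_mul_cancel_right]
  have hQi : ∀ a : A, a • Q = Q := by
    intro a
    obtain ⟨w, hw, hwP⟩ := hex (a • Q)
    obtain ⟨v, hv, hvQ⟩ : ∃ v ∈ V, v • Q = a • Q :=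
      ⟨w * (n : G)⁻¹, V.mul_mem hw (V.inv_mem n.2), by rw [hQdef, ← mul_smul, inv_mul_cancel_right, hwP, hQdef]⟩
    have hv1 : (⟨v, hv⟩ : V) = 1 := hSfix _ fun s hs => Subtype.ext (by
      show s • v = v
      have h1 : s • a • Q = a • Q := by
        rw [← mul_smul, show s * a = a * (a⁻¹ * s * a) by group, mul_smul,
          hQS _ (by simpa using hSn.conj_mem s hs a⁻¹)]
      have h2 : (s • v) • Q = v • Q := by
        calc (s • v) • Q = (s • v) • s • Q := by rw [hQS s hs]
          _ = v • Q := by rw [← smul_conj_sylow, hvQ, h1]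
      have h3 := huniq Q (v⁻¹ * s • v) (V.mul_mem (V.inv_mem hv) (hVi _ _ hv))
        (by rw [mul_smul, h2, inv_smul_smul])
      exact (inv_mul_eq_one.1 h3).symm)
    rw [← hvQ, show v = 1 from congrArg Subtype.val hv1, one_smul]
  have hQinv : IsInv A (Q : Subgroup G) := fun a x hx => by
    have h := Subgroup.smul_mem_pointwise_smul x a (Q : Subgroup G) hx
    rwa [← Sylow.pointwise_smul_def, hQi] at h
  have hQV : (Q : Subgroup G) ⊔ V = ⊤ := by
    haveI := hsupn q Q
    refine top_le_iff.1 ?_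
    rw [← hLt, hL]
    refine sup_le (fun x hx => ?_) le_sup_right
    obtain ⟨g, hg⟩ := MulAction.exists_smul_eq G Q P
    rw [← hg, Sylow.coe_subgroup_smul, Subgroup.mem_pointwise_smul_iff_inv_smul_mem] at hx
    have h2 := (hsupn q Q).conj_mem _ (Subgroup.mem_sup_left hx) g
    simpa [MulAut.smul_def, mul_assoc] using h2
  have hQVdisj : V ⊓ (Q : Subgroup G) = ⊥ :=
    (IsPGroup.disjoint_of_ne p q (Ne.symm hqp) _ _ hVp Q.isPGroup').eq_bot
  obtain ⟨C, hC⟩ : ∃ C : Subgroup G, C = (Q : Subgroup G) ⊓ Subgroup.centralizer (V : Set G) := ⟨_, rfl⟩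
  haveI hCn : C.Normal := by
    refine Subgroup.normalizer_eq_top_iff.1 (top_le_iff.1 ?_)
    rw [← hQV, hC]
    refine sup_le ?_ ?_
    · refine (le_inf Subgroup.le_normalizer ?_).trans Subgroup.inf_normalizer_le_normalizer_inf
      rw [Subgroup.normalizer_eq_top_iff.2 inferInstance]
      exact le_top
    · refine (fun v hv => ?_ : V ≤ _)
      rw [Subgroup.mem_normalizer_iff]
      intro y
      constructor
      · intro hy
        rw [Subgroup.mem_centralizer_iff.1 hy.2 v hv, mul_inv_cancel_right]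
        exact hy
      · intro hy
        have h1 := Subgroup.mem_centralizer_iff.1 hy.2 v hv
        have : v * y * v⁻¹ = y := by
          calc v * y * v⁻¹ = v⁻¹ * (v * (v * y * v⁻¹)) := by group
            _ = v⁻¹ * ((v * y * v⁻¹) * v) := by rw [h1]
            _ = y := by group
        rwa [this] at hy
  by_cases hC0 : C = ⊥
  · by_cases hQ0 : (Q : Subgroup G) = ⊥
    · have h1 : (P : Subgroup G) = ⊥ := Subgroup.card_eq_one.1 (by
        rw [P.card_eq_multiplicity, ← Q.card_eq_multiplicity, hQ0, Subgroup.card_bot])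
      rw [h1]; infer_instance
    · exact (false_of_faithful hA hb hfix hnil (Ne.symm hqp) V (Q : Subgroup G) hVi hVc hVe hQinv
        Q.isPGroup' hQ0 hQVdisj (hC ▸ hC0)).elim
  · have hCq : IsPGroup q C := Q.isPGroup'.to_le (hC ▸ inf_le_left)
    haveI := hCq.isNilpotent
    obtain ⟨X, r, hr, hXn, hXi, hX0, hXC, hXc, hXe⟩ :=
      exists_elementary_inv C (hC ▸ hQinv.inf hVi.centralizer) hC0 inferInstance
    haveI := Fact.mk hr
    haveI := hXn
    have hXV : X ⊓ V = ⊥ := le_bot_iff.1
      (le_trans (le_inf inf_le_right (inf_le_left.trans (hXC.trans (hC ▸ inf_le_left)))) hQVdisj.le)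
    have hGn := CfsgLib.Carter.isNilpotent_of_two_quotients X V hXV
      (isNilpotent_quotient hA hb hfix hnil hXi hX0 hXc hXe) hGV
    exact ((Group.isNilpotent_of_finite_tfae (G := G)).out 0 3 rfl rfl).1 hGn q inferInstance P

/-- **The theorem.** -/
theorem isNilpotent_of_fixSub (hA : OpData F H)
    (hfix : ∀ g : G, (∀ f ∈ F, f • g = g) → g = 1) (hnil : Group.IsNilpotent (fixSub H G)) :
    Group.IsNilpotent G := by
  suffices h : ∀ n, Below.{u} F H n from h (Nat.card G + 1) G (Nat.lt_succ_self _) hfix hnil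
  intro n
  induction n with
  | zero => exact fun K _ _ _ h _ _ => absurd h (Nat.not_lt_zero _)
  | succ n ih =>
    intro K _ _ _ hK hfixK hnilK
    rcases Nat.lt_or_ge (Nat.card K) n with h | h
    · exact ih K h hfixK hnilK
    · exact isNilpotent_step hA (fun L _ _ _ hL => ih L (lt_of_lt_of_le hL (by omega))) hfixK hnilK

end CfsgLib.FrobAut20
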