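import Cfsg.Agent.Lib.FrobAut20.Lift
import Cfsg.Agent.Lib.Coprime.Action
import Cfsg.Agent.Lib.Frobenius.FPFNilpotent

/-!
# Invariant subgroups: tools
-/

namespace CfsgLib.FrobAut20

set_option linter.style.haveILetI false
open Pointwise

variable {A : Type*} [Group A] {G : Type*} [Group G] [MulDistribMulAction A G]

theorem IsInv.normalizer {N : Subgroup G} (hN : IsInv A N) :
    IsInv A (Subgroup.normalizer (N : Set G)) := by
  intro a x hx
  rw [Subgroup.mem_normalizer_iff] at hx ⊢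
  intro y
  rw [show a • x * y * (a • x)⁻¹ = a • (x * (a⁻¹ • y) * x⁻¹) by simp, hN.smul_mem_iff, ← hx,
    hN.smul_mem_iff]

theorem IsInv.centralizer {N : Subgroup G} (hN : IsInv A N) :
    IsInv A (Subgroup.centralizer (N : Set G)) := by
  intro a x hx
  rw [Subgroup.mem_centralizer_iff] at hx ⊢
  intro y hy
  have h1 := congrArg (a • ·) (hx _ (hN a⁻¹ y hy))
  simpa using h1

theorem IsInv.inf {M N : Subgroup G} (hM : IsInv A M) (hN : IsInv A N) : IsInv A (M ⊓ N) :=
  fun a _ hx => ⟨hM a _ hx.1, hN a _ hx.2⟩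

theorem IsInv.closure {T : Set G} (hT : ∀ a : A, ∀ x ∈ T, a • x ∈ Subgroup.closure T) :
    IsInv A (Subgroup.closure T) := by
  intro a x hx
  exact ((Subgroup.closure_le ((Subgroup.closure T).comap (MulDistribMulAction.toMonoidHom G a))).2
    fun y hy => hT a y hy) hx

theorem IsInv.sup {M N : Subgroup G} (hM : IsInv A M) (hN : IsInv A N) : IsInv A (M ⊔ N) := by
  intro a x hx
  have : M ⊔ N ≤ (M ⊔ N).comap (MulDistribMulAction.toMonoidHom G a) :=
    sup_le (fun y hy => Subgroup.mem_sup_left (hM a y hy))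
      fun y hy => Subgroup.mem_sup_right (hN a y hy)
  exact this hx

theorem isInv_center : IsInv A (Subgroup.center G) := by
  intro a x hx
  rw [Subgroup.mem_center_iff] at hx ⊢
  intro y
  have h1 := congrArg (a • ·) (hx (a⁻¹ • y))
  simpa using h1

theorem isInv_fixSub {S : Subgroup A} [hS : S.Normal] : IsInv A (fixSub S G) := by
  intro a g hg s hs
  rw [← mul_smul, show s * a = a * (a⁻¹ * s * a) by group, mul_smul,
    hg _ (by simpa using hS.conj_mem s hs a⁻¹)]

theorem IsInv.map_eq {N : Subgroup G} (hN : IsInv A N) (a : A) :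
    N.map (MulDistribMulAction.toMonoidHom G a) = N := by
  refine le_antisymm ?_ fun x hx => ⟨a⁻¹ • x, hN a⁻¹ x hx, by simp⟩
  rintro _ ⟨x, hx, rfl⟩
  exact hN a x hx

/-- The action on the quotient by an invariant normal subgroup. -/
@[reducible] def quotAct {N : Subgroup G} [N.Normal] (hN : IsInv A N) :
    MulDistribMulAction A (G ⧸ N) where
  smul a := QuotientGroup.map N N (MulDistribMulAction.toMonoidHom G a) fun n hn => hN a n hn
  one_smul q := by
    induction q using QuotientGroup.induction_on with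
    | H g => exact congrArg QuotientGroup.mk (one_smul A g)
  mul_smul a b q := by
    induction q using QuotientGroup.induction_on with
    | H g => exact congrArg QuotientGroup.mk (mul_smul a b g)
  smul_mul a x y := (QuotientGroup.map N N (MulDistribMulAction.toMonoidHom G a) fun n hn => hN a n hn).map_mul x y
  smul_one a := (QuotientGroup.map N N (MulDistribMulAction.toMonoidHom G a) fun n hn => hN a n hn).map_one

/-- In a soluble invariant normal subgroup there is an invariant elementary abelian one. -/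
theorem exists_elementary_inv [Finite G] (M : Subgroup G) [hMn : M.Normal] (hMi : IsInv A M)
    (hM : M ≠ ⊥) (hs : Group.IsSolvable M) :
    ∃ (V : Subgroup G) (p : ℕ), p.Prime ∧ V.Normal ∧ IsInv A V ∧ V ≠ ⊥ ∧ V ≤ M ∧
      (∀ x ∈ V, ∀ y ∈ V, x * y = y * x) ∧ ∀ v ∈ V, v ^ p = 1 := by
  classical
  let D : ℕ → Subgroup G := fun k => (derivedSeries M k).map M.subtype
  have hD : ∀ k, D (k + 1) = ⁅D k, D k⁆ := fun k => by
    simp only [D, derivedSeries_succ, Subgroup.map_commutator]
  have hD0 : D 0 = M := by simp [D, ← MonoidHom.range_eq_map]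
  have hDn : ∀ k, (D k).Normal := by
    intro k
    induction k with
    | zero => rw [hD0]; exact hMn
    | succ k ih => rw [hD]; exact Subgroup.commutator_normal _ _
  have hDi : ∀ k, IsInv A (D k) := by
    intro k
    induction k with
    | zero => rw [hD0]; exact hMi
    | succ k ih =>
      rw [hD]
      intro a x hx
      have h1 : ⁅D k, D k⁆.map (MulDistribMulAction.toMonoidHom G a) = ⁅D k, D k⁆ := by
        rw [Subgroup.map_commutator, ih.map_eq]
      rw [← h1]
      exact ⟨x, hx, rfl⟩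
  obtain ⟨n, hn⟩ := hs.solvable
  have hex : ∃ k, D k = ⊥ := ⟨n, by simp [D, hn]⟩
  obtain ⟨k, hk⟩ : ∃ k, Nat.find hex = k + 1 :=
    Nat.exists_eq_succ_of_ne_zero fun h0 => hM (by rw [← hD0, ← h0]; exact Nat.find_spec hex)
  have hDne : D k ≠ ⊥ := fun h => Nat.find_min hex (by omega) h
  have hcomm : ∀ x ∈ D k, ∀ y ∈ D k, x * y = y * x := fun x hx y hy => by
    have h1 := Subgroup.commutator_mem_commutator hx hy
    rw [← hD, ← hk, Nat.find_spec hex, Subgroup.mem_bot] at h1
    exact (commutatorElement_eq_one_iff_commute.1 h1).eq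
  have hle : D k ≤ M := Subgroup.map_subtype_le _
  have h1 : Nat.card (D k) ≠ 1 := fun h => hDne ((Subgroup.card_eq_one).1 h)
  obtain ⟨p, hp, hpd⟩ := Nat.exists_prime_and_dvd h1
  haveI := Fact.mk hp
  let V : Subgroup G :=
    { carrier := {x | x ∈ D k ∧ x ^ p = 1}
      one_mem' := ⟨(D k).one_mem, one_pow p⟩
      mul_mem' := fun {x y} hx hy => ⟨(D k).mul_mem hx.1 hy.1, by
        rw [(show Commute x y from hcomm x hx.1 y hy.1).mul_pow, hx.2, hy.2, one_mul]⟩
      inv_mem' := fun {x} hx => ⟨(D k).inv_mem hx.1, by rw [inv_pow, hx.2, inv_one]⟩ }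
  refine ⟨V, p, hp, ⟨fun x hx g => ⟨(hDn k).conj_mem x hx.1 g, by rw [conj_pow, hx.2]; group⟩⟩,
    fun a x hx => ⟨hDi k a x hx.1, by rw [← smul_pow', hx.2, smul_one]⟩, ?_,
    fun x hx => hle hx.1, fun x hx y hy => hcomm x hx.1 y hy.1, fun v hv => hv.2⟩
  obtain ⟨⟨z, hz⟩, hzo⟩ := exists_prime_orderOf_dvd_card' p hpd
  rw [Subgroup.orderOf_mk] at hzo
  intro hbot
  have : z ∈ V := ⟨hz, by rw [← hzo]; exact pow_orderOf_eq_one z⟩
  rw [hbot, Subgroup.mem_bot] at this
  rw [this, orderOf_one] at hzo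
  exact hp.ne_one hzo.symm

/-- The `p`-part of an invariant nilpotent subgroup. -/
theorem exists_part [Finite G] {N : Subgroup G} (hN : IsInv A N) (hnil : Group.IsNilpotent N)
    (p : ℕ) [hp : Fact p.Prime] :
    ∃ U : Subgroup G, U ≤ N ∧ IsPGroup p U ∧ IsInv A U ∧
      ∀ x ∈ N, (∃ k, x ^ p ^ k = 1) → x ∈ U := by
  obtain ⟨P⟩ : Nonempty (Sylow p N) := inferInstance
  have hPn : (P : Subgroup N).Normal :=
    ((Group.isNilpotent_of_finite_tfae (G := N)).out 0 3 rfl rfl).1 hnil p hp P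
  have hall : ∀ x ∈ N, (∃ k, x ^ p ^ k = 1) → x ∈ (P : Subgroup N).map N.subtype := by
    rintro x hx ⟨k, hk⟩
    have h1 : IsPGroup p (Subgroup.zpowers (⟨x, hx⟩ : N)) := by
      rintro ⟨_, i, rfl⟩
      refine ⟨k, Subtype.ext ?_⟩
      push_cast
      rw [← zpow_natCast, ← zpow_mul, mul_comm, zpow_mul, zpow_natCast,
        show (⟨x, hx⟩ : N) ^ p ^ k = 1 from Subtype.ext (by simpa using hk), one_zpow]
    obtain ⟨Q, hQ⟩ := h1.exists_le_sylow
    obtain ⟨g, hg⟩ := MulAction.exists_smul_eq N P Q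
    rw [Sylow.smul_eq_of_normal] at hg
    exact ⟨⟨x, hx⟩, hg ▸ hQ (Subgroup.mem_zpowers _), rfl⟩
  refine ⟨_, Subgroup.map_subtype_le _, P.isPGroup'.map _, ?_, hall⟩
  rintro a _ ⟨x, hx, rfl⟩
  obtain ⟨k, hk⟩ := P.isPGroup' ⟨x, hx⟩
  refine hall _ (hN a x x.2) ⟨k, ?_⟩
  rw [← smul_pow', Subgroup.coe_subtype, show (x : G) ^ p ^ k = 1 from congrArg (fun z : (P : Subgroup N) => ((z : N) : G)) hk,
    smul_one]

variable [Finite G]

/-- A coset of an invariant subgroup fixed by coprime soluble operators without fixed points. -/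
theorem mem_of_fixed_coset_coprime {S : Type*} [Group S] [Finite S] {G : Type*} [Group G] [Finite G]
    [MulDistribMulAction S G] (hcop : (Nat.card S).Coprime (Nat.card G)) (hsol : Group.IsSolvable S)
    (hfix : ∀ g : G, (∀ s : S, s • g = g) → g = 1) (M : Subgroup G) (hM : IsInv S M) (g : G)
    (hg : ∀ s : S, g⁻¹ * s • g ∈ M) : g ∈ M := by
  let φ := MulDistribMulAction.toMulAut S G
  let X := G ⋊[φ] S
  haveI : Finite X := Finite.of_equiv (G × S) SemidirectProduct.equivProd.symm
  let i : G →* X := SemidirectProduct.inl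
  let j : S →* X := SemidirectProduct.inr
  let eG : G ≃* i.range := MonoidHom.ofInjective SemidirectProduct.inl_injective
  let eS : S ≃* j.range := MonoidHom.ofInjective SemidirectProduct.inr_injective
  have hconj : ∀ (a : S) (x : G), j a * i x * (j a)⁻¹ = i (a • x) := fun a x => by
    rw [← map_inv]; exact (SemidirectProduct.inl_aut (φ := φ) a x).symm
  have hn : j.range ≤ Subgroup.normalizer (i.range : Set X) :=
    Subgroup.le_normalizer_iff.2 fun a ha x hx => by
      obtain ⟨b, rfl⟩ := ha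
      obtain ⟨y, rfl⟩ := hx
      exact ⟨b • y, (hconj b y).symm⟩
  have hnM : j.range ≤ Subgroup.normalizer ((M.map i : Subgroup X) : Set X) :=
    Subgroup.le_normalizer_iff.2 fun a ha x hx => by
      obtain ⟨b, rfl⟩ := ha
      obtain ⟨y, hy, rfl⟩ := hx
      exact ⟨b • y, hM b y hy, (hconj b y).symm⟩
  have hc : (Nat.card j.range).Coprime (Nat.card i.range) := by
    rwa [← Nat.card_congr eG.toEquiv, ← Nat.card_congr eS.toEquiv]
  obtain ⟨c, ⟨hcK, hcC⟩, hcM⟩ := CfsgLib.Coprime.exists_centralizing_rep j.range i.range hn hc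
    (Or.inl (@Group.isSolvable_of_surjective _ _ _ _ eS.toMonoidHom eS.surjective hsol))
    (M.map i) (Subgroup.map_le_range i M) hnM (k := i g) ⟨g, rfl⟩ fun a ha => by
      obtain ⟨b, rfl⟩ := ha
      refine ⟨_, hg b, ?_⟩
      rw [map_mul, map_inv, ← hconj]
  obtain ⟨c, rfl⟩ := hcK
  have hc1 : c = 1 := hfix c fun s => SemidirectProduct.inl_injective (φ := φ) (by
    show i (s • c) = i c
    rw [← hconj, Subgroup.mem_centralizer_iff.1 hcC (j s) ⟨s, rfl⟩, mul_inv_cancel_right])
  obtain ⟨m, hm, hme⟩ := hcM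
  rw [hc1, map_one, mul_one, ← map_inv] at hme
  have : m = g⁻¹ := SemidirectProduct.inl_injective (φ := φ) hme
  exact inv_inv g ▸ M.inv_mem (this ▸ hm)

end CfsgLib.FrobAut20
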