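import Mathlib
import Cfsg.Agent.Lib.FrobeniusFree.Module

/-!
# The trace over the complement

If a group `A = HF` acts on a finite dimensional space, `F` is a nilpotent normal subgroup without
fixed points and `H` acts fixed-point-freely on `F`, then the trace over `H` has a relative inverse.
-/

namespace CfsgLib.FrobAut20

open Module

set_option linter.style.haveILetI false

variable {k : Type*} [Field k] {A : Type*} [Group A] [Finite A]

/-- The standing hypotheses on the operator group. -/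
structure OpData (F H : Subgroup A) : Prop where
  normal : F.Normal
  nilpotent : Group.IsNilpotent F
  factor : ∀ a : A, ∃ h ∈ H, ∃ c ∈ F, a = h * c
  fpf : ∀ h ∈ H, h ≠ 1 → ∀ s ∈ F, h * s = s * h → s = 1

/-- An endomorphism whose trace is the identity, and a vector of nonzero trace. -/
theorem exists_trace {V : Type*} [AddCommGroup V] [Module k V] [FiniteDimensional k V]
    (ρ : Representation k A V) (F H : Subgroup A) [Fintype H] (hA : OpData F H)
    (hfix : ∀ v : V, (∀ f ∈ F, ρ f v = v) → v = 0) :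
    ∃ e : V →ₗ[k] V, (∀ v, ∑ h : H, ρ (h : A) (e (ρ (h : A)⁻¹ v)) = v) ∧
      (Nontrivial V → ∃ v, ∑ h : H, ρ (h : A) v ≠ 0) := by
  classical
  haveI := hA.normal
  haveI := hA.nilpotent
  obtain ⟨S, hSn, hSF, hScard, hSfix⟩ := FrobeniusFree.exists_coprime_normal ρ F hfix
  haveI := hSn
  obtain ⟨W, hW, hd⟩ := FrobeniusFree.free_of_no_fixed _ ρ F S H rfl hSF hA.factor
    (fun h hh h1 s hs => hA.fpf h hh h1 s (hSF hs)) hScard hSfix
  have hint := FrobeniusFree.isInternal_of_isFreeOver ρ H W hW hd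
  let M : H → Submodule k V := fun h => W.map (ρ (h : A))
  let Φ := LinearEquiv.ofBijective (DirectSum.coeLinearMap M) hint
  let e : V →ₗ[k] V := (M 1).subtype ∘ₗ (DirectSum.component k H (fun h => ↥(M h)) 1) ∘ₗ
    Φ.symm.toLinearMap
  have hsymm : ∀ (g : H) (x : ↥(M g)), Φ.symm (x : V) = DirectSum.lof k H (fun h => ↥(M h)) g x := by
    intro g x
    rw [LinearEquiv.symm_apply_eq]
    exact (DirectSum.coeLinearMap_lof M g x).symm
  have he1 : ∀ x ∈ M 1, e x = x := by
    intro x hx
    show ((DirectSum.component k H (fun h => ↥(M h)) 1 (Φ.symm ((⟨x, hx⟩ : ↥(M 1)) : V)) :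
      ↥(M 1)) : V) = x
    rw [hsymm 1, DirectSum.component.lof_self]
  have he0 : ∀ g : H, g ≠ 1 → ∀ x ∈ M g, e x = 0 := by
    intro g hg x hx
    show ((DirectSum.component k H (fun h => ↥(M h)) 1 (Φ.symm ((⟨x, hx⟩ : ↥(M g)) : V)) :
      ↥(M 1)) : V) = 0
    rw [hsymm g, DirectSum.component.of, dif_neg hg]
    rfl
  have hmul : ∀ (a b : A) (v : V), ρ a (ρ b v) = ρ (a * b) v := fun a b v => by
    rw [map_mul]; rfl
  refine ⟨e, fun v => ?_, fun hV => ?_⟩
  · obtain ⟨Z, hZ⟩ : ∃ Z : V →ₗ[k] V, Z = ∑ h : H, ρ (h : A) ∘ₗ e ∘ₗ ρ (h : A)⁻¹ := ⟨_, rfl⟩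
    have hZv : ∀ w, Z w = ∑ h : H, ρ (h : A) (e (ρ (h : A)⁻¹ w)) := by
      intro w; simp [hZ]
    rw [← hZv]
    have : ∀ v ∈ (⨆ h : H, M h), Z v = v := by
      intro v hv
      induction hv using Submodule.iSup_induction' with
      | mem g x hx =>
        obtain ⟨w, hw, rfl⟩ := hx
        rw [hZv, Finset.sum_eq_single g]
        · rw [hmul, inv_mul_cancel, map_one, Module.End.one_apply,
            he1 w ⟨w, hw, by simp⟩]
        · intro h _ hne
          rw [hmul, he0 (h⁻¹ * g) (by simpa [inv_mul_eq_one] using hne)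
            (ρ ((h : A)⁻¹ * g) w) ⟨w, hw, by simp⟩, map_zero]
        · simp
      | zero => exact map_zero Z
      | add x y _ _ hx hy => rw [map_add, hx, hy]
    exact this v (hW ▸ Submodule.mem_top)
  · have hWne : W ≠ ⊥ := by
      intro h
      rw [h] at hW
      simp at hW
    obtain ⟨w, hw, hw0⟩ := (Submodule.ne_bot_iff W).1 hWne
    refine ⟨w, fun h => hw0 ?_⟩
    have := congrArg e h
    rw [map_sum, map_zero, Finset.sum_eq_single (1 : H)] at this
    · have h1 : w ∈ M 1 := ⟨w, hw, by simp⟩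
      simpa [he1 w h1] using this
    · intro h _ hne
      exact he0 h hne _ ⟨w, hw, rfl⟩
    · simp

end CfsgLib.FrobAut20
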