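import Cfsg.Agent.Lib.FrobAut20.Trace

/-!
# The weight argument

`Q` is an abelian group of order prime to the characteristic, acting on a space on which `A = HF`
acts compatibly and `F` has no fixed points. An element of `Q` acting trivially on all traces over
`H` acts trivially.
-/

namespace CfsgLib.FrobAut20

open Module

set_option linter.style.haveILetI false

universe u

/-- Nilpotency pulls back along an injective map. -/
theorem isNilpotent_of_injective_hom' {X Y : Type*} [Group X] [Group Y] [Group.IsNilpotent Y]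
    (f : X →* Y) (hf : Function.Injective f) : Group.IsNilpotent X :=
  Group.nilpotent_of_mulEquiv (MonoidHom.ofInjective hf).symm

variable {K : Type*} [Field K] [IsAlgClosed K] {A : Type*} [Group A] [Finite A]
  {Q : Type*} [CommGroup Q] [Finite Q] [MulDistribMulAction A Q]

omit [Finite Q] in
/-- Diagonalisability of an abelian group of order prime to the characteristic. -/
theorem iSup_weight_eq_top {V : Type*} [AddCommGroup V] [Module K V] [FiniteDimensional K V]
    (σ : Q →* Module.End K V) (hq : (Nat.card Q : K) ≠ 0) :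
    (⨆ χ : Q → K, ⨅ x, Module.End.eigenspace (σ x) (χ x)) = ⊤ := by
  have hss : ∀ x, (σ x).IsSemisimple := fun x => by
    refine Module.End.isSemisimple_of_squarefree_aeval_eq_zero
      (p := Polynomial.X ^ Nat.card Q - Polynomial.C (1 : K)) ?_ ?_
    · exact (Polynomial.separable_X_pow_sub_C (1 : K) hq one_ne_zero).squarefree
    · rw [map_sub, map_pow, Polynomial.aeval_X, Polynomial.aeval_C, map_one, ← map_pow,
        pow_card_eq_one', map_one, sub_self]
  have h1 := Module.End.iSup_iInf_maxGenEigenspace_eq_top_of_forall_mapsTo (fun x => σ x)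
    (fun i j μ v hv => Module.End.mapsTo_maxGenEigenspace_of_comm
      ((Commute.all j i).map σ) μ hv)
    (fun x => Module.End.iSup_maxGenEigenspace_eq_top _)
  have h2 : ∀ (x : Q) (μ : K), (σ x).maxGenEigenspace μ = (σ x).eigenspace μ := fun x μ =>
    ((hss x).isFinitelySemisimple).maxGenEigenspace_eq_eigenspace μ
  simpa only [h2] using h1

variable {V : Type u} [AddCommGroup V] [Module K V] [FiniteDimensional K V]

set_option maxHeartbeats 1000000 in
/-- An element of `Q` fixing all traces over `H` acts trivially. -/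
theorem eq_one_of_fixes_traces (ρ : Representation K A V) (σ : Q →* Module.End K V)
    (hcomp : ∀ (a : A) (x : Q) (v : V), ρ a (σ x v) = σ (a • x) (ρ a v))
    (F H : Subgroup A) [Fintype H] (hA : OpData F H) (hq : (Nat.card Q : K) ≠ 0)
    (hfix : ∀ v : V, (∀ f ∈ F, ρ f v = v) → v = 0) (c : Q)
    (hc : ∀ v, σ c (∑ h : H, ρ (h : A) v) = ∑ h : H, ρ (h : A) v) : σ c = 1 := by
  classical
  haveI := Fintype.ofFinite Q
  haveI := hA.normal
  haveI := hA.nilpotent
  suffices hmain : ∀ (χ : Q → K) (v : V), v ≠ 0 → (∀ x, σ x v = χ x • v) → χ c = 1 by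
    refine LinearMap.ext fun v => ?_
    have hv : v ∈ ⨆ χ : Q → K, ⨅ x, Module.End.eigenspace (σ x) (χ x) := by
      rw [iSup_weight_eq_top σ hq]; exact Submodule.mem_top
    induction hv using Submodule.iSup_induction' with
    | mem χ w hw =>
      have hw' : ∀ x, σ x w = χ x • w := fun x =>
        Module.End.mem_eigenspace_iff.1 (Submodule.mem_iInf _ |>.1 hw x)
      rcases eq_or_ne w 0 with rfl | h0
      · simp
      · rw [hw' c, hmain χ w h0 hw', one_smul]; rfl
    | zero => simp
    | add x y _ _ hx hy => rw [map_add, map_add, hx, hy]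
  intro χ v hv0 hv
  have hχmul : ∀ x y, χ (x * y) = χ x * χ y := fun x y => by
    refine smul_left_injective K hv0 ?_
    show χ (x * y) • v = (χ x * χ y) • v
    rw [← hv, map_mul, Module.End.mul_apply, hv, map_smul, hv, smul_smul, mul_comm]
  have hχone : χ 1 = 1 := by
    refine smul_left_injective K hv0 ?_
    show χ 1 • v = (1 : K) • v
    rw [← hv, map_one, Module.End.one_apply, one_smul]
  have hχinv : ∀ x, χ x * χ x⁻¹ = 1 := fun x => by rw [← hχmul, mul_inv_cancel, hχone]
  -- the weight space and the stabiliser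
  let U : Submodule K V := ⨅ x, Module.End.eigenspace (σ x) (χ x)
  have hU : ∀ w, w ∈ U ↔ ∀ x, σ x w = χ x • w := fun w => by
    simp [U]
  have hχfix : ∀ a : A, a ∈ {a : A | ∀ x, χ (a • x) = χ x} ↔ ∀ x, χ (a • x) = χ x := fun _ => .rfl
  let St : Subgroup A :=
    { carrier := {a | ∀ x, χ (a • x) = χ x}
      one_mem' := fun x => by simp
      mul_mem' := fun {a b} ha hb x => by rw [mul_smul, ha, hb]
      inv_mem' := fun {a} ha x => by
        conv_rhs => rw [← smul_inv_smul a x]
        exact (ha _).symm }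
  have hρU : ∀ a ∈ St, ∀ w ∈ U, ρ a w ∈ U := by
    intro a ha w hw
    rw [hU] at hw ⊢
    intro x
    conv_lhs => rw [← smul_inv_smul a x]
    rw [← hcomp, hw, map_smul, (St.inv_mem ha) x]
  -- the projection
  let n : K := (Nat.card Q : K)
  let P : V →ₗ[K] V := n⁻¹ • ∑ x : Q, χ x⁻¹ • (σ x : V →ₗ[K] V)
  have hPU : ∀ w ∈ U, P w = w := by
    intro w hw
    rw [hU] at hw
    have : ∀ x : Q, χ x⁻¹ • σ x w = w := fun x => by
      rw [hw x, smul_smul, mul_comm, hχinv, one_smul]
    simp only [P, LinearMap.smul_apply, LinearMap.coe_sum, Finset.sum_apply]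
    rw [Finset.sum_congr rfl fun x _ => this x, Finset.sum_const, Finset.card_univ,
      ← Nat.cast_smul_eq_nsmul K, smul_smul, ← Nat.card_eq_fintype_card, inv_mul_cancel₀ hq,
      one_smul]
  have hP0 : ∀ a ∉ St, ∀ w ∈ U, P (ρ a w) = 0 := by
    intro a ha w hw
    rw [hU] at hw
    have ha' : a⁻¹ ∉ St := fun h => ha (by simpa using St.inv_mem h)
    obtain ⟨y, hy⟩ : ∃ y, χ (a⁻¹ • y) ≠ χ y := by
      by_contra h
      push Not at h
      exact ha' h
    have hterm : ∀ x : Q, χ x⁻¹ • σ x (ρ a w) = (χ x⁻¹ * χ (a⁻¹ • x)) • ρ a w := fun x => by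
      conv_lhs => rw [← smul_inv_smul a x]
      rw [← hcomp, hw, map_smul, smul_smul, smul_inv_smul]
    simp only [P, LinearMap.smul_apply, LinearMap.coe_sum, Finset.sum_apply]
    rw [Finset.sum_congr rfl fun x _ => hterm x, ← Finset.sum_smul]
    suffices (∑ x : Q, χ x⁻¹ * χ (a⁻¹ • x)) = 0 by simp [this]
    obtain ⟨s, hs⟩ : ∃ s, s = ∑ x : Q, χ x⁻¹ * χ (a⁻¹ • x) := ⟨_, rfl⟩
    rw [← hs]
    have h1 : χ y⁻¹ * χ (a⁻¹ • y) * s = s := by
      conv_rhs => rw [hs, ← Equiv.sum_comp (Equiv.mulLeft y)]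
      rw [hs, Finset.mul_sum]
      refine Finset.sum_congr rfl fun x _ => ?_
      rw [Equiv.coe_mulLeft, smul_mul', mul_inv, hχmul, hχmul]
      ring
    by_contra hs0
    apply hy
    have h2 : χ y⁻¹ * χ (a⁻¹ • y) = 1 := mul_right_cancel₀ hs0 (by rw [h1, one_mul])
    calc χ (a⁻¹ • y) = (χ y * χ y⁻¹) * χ (a⁻¹ • y) := by rw [hχinv, one_mul]
      _ = χ y := by rw [mul_assoc, h2, mul_one]
  have hPc : ∀ w, P (σ c w) = χ c • P w := by
    intro w
    simp only [P, LinearMap.smul_apply, LinearMap.coe_sum, Finset.sum_apply]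
    rw [smul_comm (χ c)]
    congr 1
    rw [Finset.smul_sum]
    conv_rhs => rw [← Equiv.sum_comp (Equiv.mulRight c)]
    refine Finset.sum_congr rfl fun x _ => ?_
    rw [Equiv.coe_mulRight, smul_smul, map_mul, Module.End.mul_apply, mul_inv, hχmul]
    rw [show χ c * (χ x⁻¹ * χ c⁻¹) = χ x⁻¹ * (χ c * χ c⁻¹) by ring, hχinv, mul_one]
  -- the smaller group
  let A' : Subgroup A :=
    { carrier := {a | ∃ h ∈ H, ∃ f ∈ F, h ∈ St ∧ f ∈ St ∧ a = h * f}
      one_mem' := ⟨1, H.one_mem, 1, F.one_mem, St.one_mem, St.one_mem, (mul_one 1).symm⟩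
      mul_mem' := by
        rintro _ _ ⟨h, hh, f, hf, hhS, hfS, rfl⟩ ⟨h', hh', f', hf', hhS', hfS', rfl⟩
        refine ⟨h * h', H.mul_mem hh hh', (h'⁻¹ * f * h') * f', F.mul_mem
          (by simpa using hA.normal.conj_mem f hf h'⁻¹) hf', St.mul_mem hhS hhS',
          St.mul_mem (St.mul_mem (St.mul_mem (St.inv_mem hhS') hfS) hhS') hfS', by group⟩
      inv_mem' := by
        rintro _ ⟨h, hh, f, hf, hhS, hfS, rfl⟩
        exact ⟨h⁻¹, H.inv_mem hh, h * f⁻¹ * h⁻¹, hA.normal.conj_mem _ (F.inv_mem hf) h,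
          St.inv_mem hhS, St.mul_mem (St.mul_mem hhS (St.inv_mem hfS)) (St.inv_mem hhS), by group⟩ }
  have hA'St : A' ≤ St := by
    rintro _ ⟨h, _, f, _, hhS, hfS, rfl⟩
    exact St.mul_mem hhS hfS
  have hFmem : ∀ f ∈ F, f ∈ St → f ∈ A' := fun f hf hfS =>
    ⟨1, H.one_mem, f, hf, St.one_mem, hfS, (one_mul f).symm⟩
  have hHmem : ∀ h ∈ H, h ∈ St → h ∈ A' := fun h hh hhS =>
    ⟨h, hh, 1, F.one_mem, hhS, St.one_mem, (mul_one h).symm⟩
  have hA' : OpData (F.subgroupOf A') (H.subgroupOf A') := by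
    refine ⟨inferInstance, ?_, ?_, ?_⟩
    · exact isNilpotent_of_injective_hom'
        ({ toFun := fun x => ⟨(x.1 : A), x.2⟩
           map_one' := rfl
           map_mul' := fun _ _ => rfl } : ↥(F.subgroupOf A') →* F)
        (fun x y h => Subtype.ext (Subtype.ext (congrArg (fun z : F => (z : A)) h)))
    · rintro ⟨_, h, hh, f, hf, hhS, hfS, rfl⟩
      exact ⟨⟨h, hHmem h hh hhS⟩, hh, ⟨f, hFmem f hf hfS⟩, hf, rfl⟩
    · intro h hh hne s hs hcomm
      exact Subtype.ext (hA.fpf h hh (fun e => hne (Subtype.ext e)) s hs (congrArg Subtype.val hcomm))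
  let ρ' : Representation K A' U :=
    { toFun := fun a => (ρ (a : A)).restrict (hρU a (hA'St a.2))
      map_one' := LinearMap.ext fun w => Subtype.ext (by simp)
      map_mul' := fun a b => LinearMap.ext fun w => Subtype.ext (by simp) }
  have hfix' : ∀ w : U, (∀ f ∈ F.subgroupOf A', ρ' f w = w) → w = 0 := by
    intro w hw
    let T : Subgroup F := St.subgroupOf F
    haveI := Fintype.ofFinite (↥F ⧸ T)
    have hT : ∀ t : F, (t : A) ∈ St → ρ (t : A) (w : V) = w := fun t ht =>
      congrArg Subtype.val (hw ⟨t, hFmem t t.2 ht⟩ t.2)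
    let g : ↥F ⧸ T → V := Quotient.lift (fun f : F => ρ (f : A) (w : V)) (by
      intro f f' hff
      replace hff : f⁻¹ * f' ∈ T := QuotientGroup.leftRel_apply.1 hff
      show ρ (f : A) (w : V) = ρ (f' : A) (w : V)
      conv_lhs => rw [← hT (f⁻¹ * f') hff]
      rw [← Module.End.mul_apply, ← map_mul]
      congr 2
      simp)
    have hsum : ∑ q, g q = 0 := hfix _ fun f hf => by
      rw [map_sum]
      refine Fintype.sum_equiv (MulAction.toPerm (⟨f, hf⟩ : F)) _ _ fun q => ?_
      induction q using QuotientGroup.induction_on with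
      | H f' =>
        show ρ f (ρ (f' : A) (w : V)) = ρ ((⟨f, hf⟩ * f' : F) : A) (w : V)
        rw [Subgroup.coe_mul, map_mul]; rfl
    have h1 := congrArg P hsum
    rw [map_sum, map_zero, Finset.sum_eq_single ((1 : F) : ↥F ⧸ T)] at h1
    · refine Subtype.ext ?_
      have h2 : g ((1 : F) : ↥F ⧸ T) = (w : V) := by
        show ρ ((1 : F) : A) (w : V) = w
        simp
      rw [h2, hPU _ w.2] at h1
      exact h1
    · intro q _ hq'
      induction q using QuotientGroup.induction_on with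
      | H f' =>
        refine hP0 (f' : A) (fun hS => hq' ?_) _ w.2
        exact QuotientGroup.eq.2 (by simpa [T, Subgroup.mem_subgroupOf] using St.inv_mem hS)
    · simp
  haveI : Fintype ↥(H.subgroupOf A') := Fintype.ofFinite _
  obtain ⟨_, -, htr⟩ := exists_trace ρ' _ _ hA' hfix'
  haveI : Nontrivial U := ⟨⟨⟨v, (hU v).2 hv⟩, 0, fun h => hv0 (congrArg Subtype.val h)⟩⟩
  obtain ⟨u, hu⟩ := htr inferInstance
  have hsum : P (∑ h : H, ρ (h : A) (u : V)) =
      ((∑ h : H.subgroupOf A', ρ' (h : A') u : U) : V) := by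
    rw [map_sum, Submodule.coe_sum,
      ← Finset.sum_subset (Finset.subset_univ (Finset.univ.filter fun h : H => (h : A) ∈ St))
        (fun h _ hh => hP0 _ (by simpa using hh) _ u.2)]
    refine Finset.sum_bij (fun h hh => ⟨⟨(h : A), hHmem h h.2 (by simpa using hh)⟩, h.2⟩)
      (fun _ _ => Finset.mem_univ _) (fun a _ b _ e => Subtype.ext
        (congrArg (fun z : ↥(H.subgroupOf A') => ((z : A') : A)) e)) (fun b _ => ⟨⟨((b : A') : A), b.2⟩,
        by simpa using hA'St (b : A').2, rfl⟩) (fun h hh => ?_)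
    exact hPU _ (hρU _ (by simpa using hh) _ u.2)
  have h2 := hPc (∑ h : H, ρ (h : A) (u : V))
  rw [hc, hsum] at h2
  by_contra hne
  apply hu
  refine Subtype.ext ?_
  show _ = (0 : V)
  by_contra h0
  exact hne (smul_left_injective K h0 (h2.symm.trans (one_smul K _).symm))

end CfsgLib.FrobAut20
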